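import Cfsg.Agent.Lib.LAEven54.Reduced
import Cfsg.Agent.Lib.CharP.Basic

/-!
`O^p` of a subnormal subgroup is normalized by normal `p`-subgroups; `[V, O^p(K)]` is `p`-reduced.
-/

set_option autoImplicit false

namespace Cfsg.Agent.Lib.LAEven54.Subnormal

open Cfsg Cfsg.Agent.Lib.CharP

variable {G : Type*} [Group G] [Finite G] {p : ℕ} [Fact p.Prime]

omit [Finite G] [Fact p.Prime] in
/-- Elements of order prime to `p` of `K V` lie in `K`. -/
theorem mem_of_coprime {K V : Subgroup G} (hK : K.IsSubnormal) [V.Normal] (hV : IsPGroup p V)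
    {g : G} (hg : g ∈ K ⊔ V) (hco : (orderOf g).Coprime p) : g ∈ K := by
  induction hK with
  | top => trivial
  | step H K hle _ hN ih =>
    have hgK : g ∈ K := ih (sup_le_sup_right hle V hg)
    obtain ⟨k, hk, v, hv, rfl⟩ := Subgroup.mem_sup_of_normal_right.1 hg
    have hvK : v ∈ K := by simpa using K.mul_mem (K.inv_mem (hle hk)) hgK
    haveI := hN
    obtain ⟨m, hm⟩ := isPGroup_iff_pow_pow_eq_one.1 hV ⟨v, hv⟩
    have h1 : QuotientGroup.mk' (H.subgroupOf K) ⟨k * v, hgK⟩ = QuotientGroup.mk' (H.subgroupOf K) ⟨v, hvK⟩ := by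
      have : (⟨k * v, hgK⟩ : K) = ⟨k, hle hk⟩ * ⟨v, hvK⟩ := rfl
      rw [this, map_mul, show QuotientGroup.mk' (H.subgroupOf K) ⟨k, hle hk⟩ = 1 from
        (QuotientGroup.eq_one_iff _).2 hk, one_mul]
    have h2 : QuotientGroup.mk' (H.subgroupOf K) ⟨k * v, hgK⟩ = 1 := by
      refine eq_one_of_coprime_of_pElement (k := m) (Nat.Coprime.coprime_dvd_left (orderOf_map_dvd _ _)
        (by rwa [Subgroup.orderOf_mk])) ?_
      rw [h1, ← map_pow, show (⟨v, hvK⟩ : K) ^ p ^ m = 1 from Subtype.ext (congrArg V.subtype hm), map_one]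
    exact Subgroup.mem_subgroupOf.1 ((QuotientGroup.eq_one_iff (⟨k * v, hgK⟩ : K)).1 h2)

omit [Finite G] [Fact p.Prime] in
/-- A normal `p`-subgroup normalizes `O^p(K)` for `K` subnormal. -/
theorem map_pResidual_sup {K V : Subgroup G} (hK : K.IsSubnormal) [V.Normal] (hV : IsPGroup p V) :
    (pResidual p ↥(K ⊔ V)).map (K ⊔ V).subtype = (pResidual p ↥K).map K.subtype := by
  refine le_antisymm ?_ (map_pResidual_subtype_mono le_sup_left)
  rw [map_pResidual_subtype, map_pResidual_subtype]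
  exact Subgroup.closure_mono fun g hg => ⟨mem_of_coprime hK hV hg.1 hg.2, hg.2⟩

end Cfsg.Agent.Lib.LAEven54.Subnormal
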