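import Cfsg.Prelude.Def_LocalEven
import Cfsg.Agent.Lib.PGroups.Recognition
import Cfsg.Agent.Lib.Transfer.InvolvesS4
import Mathlib.GroupTheory.Sylow

/-!
Two-elements inverting elements of odd prime order, and dihedral sections.
-/

set_option autoImplicit false

namespace Cfsg.Agent.Lib.LAEven54.Inverted

open Cfsg.Agent.Lib.PGroups Cfsg.Agent.Lib.Transfer.InvolvesS4

variable {G : Type*} [Group G] {p : ℕ}

theorem eq_one_of_eq_inv_of_odd {y : G} (h : y = y⁻¹) {k : ℕ} (hp : Odd p) (hy : y ^ p ^ k = 1) :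
    y = 1 := by
  have h2 : y ^ 2 = 1 := by rw [sq]; nth_rewrite 2 [h]; exact mul_inv_cancel y
  obtain ⟨m, hm⟩ := hp.pow (n := k)
  rw [hm, pow_succ, pow_mul, h2, one_pow, one_mul] at hy
  exact hy

/-- An odd power of an element of finite order is a two-element. -/
theorem exists_two_part [Finite G] (n : G) :
    ∃ m : ℕ, Odd m ∧ ∃ k : ℕ, orderOf (n ^ m) = 2 ^ k := by
  have h0 : orderOf n ≠ 0 := (orderOf_pos n).ne'
  refine ⟨orderOf n / 2 ^ (orderOf n).factorization 2, ?_, (orderOf n).factorization 2, ?_⟩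
  · rw [Nat.odd_iff, ← Nat.two_dvd_ne_zero]
    exact Nat.not_dvd_ordCompl Nat.prime_two h0
  · rw [orderOf_pow_of_dvd (Nat.div_pos (Nat.ordProj_le 2 h0) (Nat.ordProj_pos _ _)).ne'
      (Nat.ordCompl_dvd _ _), Nat.div_div_self (Nat.ordProj_dvd _ _) h0]

theorem conj_two (x w : G) : x * (x * w * x⁻¹) * x⁻¹ = x ^ 2 * w * (x ^ 2)⁻¹ := by
  rw [sq]; group

/-- A two-element normalising, but not centralising, a `p`-subgroup yields an inverted element. -/
theorem exists_inverted_of_normalizer {x : G} {P : Subgroup G} (hx : ∃ k : ℕ, orderOf x = 2 ^ k)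
    (hP : IsPGroup p ↥P) (hxP : x ∈ Subgroup.normalizer (P : Set G))
    (hxC : x ∉ Subgroup.centralizer (P : Set G)) :
    ∃ x' y : G, (∃ k : ℕ, orderOf x' = 2 ^ k) ∧ y ∈ P ∧ x' ∈ Subgroup.zpowers x ∧ y ≠ 1 ∧
      x' * y * x'⁻¹ = y⁻¹ := by
  classical
  obtain ⟨k, hk⟩ := hx
  have hex : ∃ j, x ^ 2 ^ j ∈ Subgroup.centralizer (P : Set G) :=
    ⟨k, by rw [← hk, pow_orderOf_eq_one]; exact one_mem _⟩
  have h0 : Nat.find hex ≠ 0 := fun h => hxC (by simpa [h] using Nat.find_spec hex)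
  obtain ⟨j, hj⟩ := Nat.exists_eq_add_one_of_ne_zero h0
  have h2 : (x ^ 2 ^ j) ^ 2 ∈ Subgroup.centralizer (P : Set G) := by
    rw [← pow_mul, ← pow_succ, ← hj]; exact Nat.find_spec hex
  have hn : x ^ 2 ^ j ∉ Subgroup.centralizer (P : Set G) := Nat.find_min hex (by omega)
  have hxN : x ^ 2 ^ j ∈ Subgroup.normalizer (P : Set G) := pow_mem hxP _
  have hord : ∃ m : ℕ, orderOf (x ^ 2 ^ j) = 2 ^ m := by
    have hd : orderOf (x ^ 2 ^ j) ∣ 2 ^ k := hk ▸ orderOf_pow_dvd _
    obtain ⟨m, -, hm⟩ := (Nat.dvd_prime_pow Nat.prime_two).1 hd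
    exact ⟨m, hm⟩
  set x' := x ^ 2 ^ j with hx'
  rw [Subgroup.mem_centralizer_iff] at hn
  push Not at hn
  obtain ⟨v, hv, hne⟩ := hn
  have hconj : x' * v * x'⁻¹ ∈ P := ((Subgroup.mem_normalizer_iff.1 hxN) v).1 hv
  refine ⟨x', v⁻¹ * (x' * v * x'⁻¹), hord, P.mul_mem (P.inv_mem hv) hconj,
    pow_mem (Subgroup.mem_zpowers x) _, fun h => hne ?_, ?_⟩
  · exact (eq_mul_inv_iff_mul_eq.1 (inv_mul_eq_one.1 h)).symm ▸ rfl
  · have h3 : x' ^ 2 * v * (x' ^ 2)⁻¹ = v := by
      rw [← (Subgroup.mem_centralizer_iff.1 h2) v hv]; group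
    calc x' * (v⁻¹ * (x' * v * x'⁻¹)) * x'⁻¹
        = (x' * v * x'⁻¹)⁻¹ * (x' * (x' * v * x'⁻¹) * x'⁻¹) := by group
      _ = (v⁻¹ * (x' * v * x'⁻¹))⁻¹ := by rw [conj_two, h3]; group

theorem exists_orderOf_prime [Fact p.Prime] {y : G} (hy : ∃ k : ℕ, orderOf y = p ^ k)
    (hy1 : y ≠ 1) : ∃ m : ℕ, orderOf (y ^ m) = p := by
  obtain ⟨k, hk⟩ := hy
  have hk0 : k ≠ 0 := fun h => hy1 (orderOf_eq_one_iff.1 (by rw [hk, h, pow_zero]))
  obtain ⟨j, rfl⟩ := Nat.exists_eq_add_one_of_ne_zero hk0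
  refine ⟨p ^ j, ?_⟩
  rw [orderOf_pow_of_dvd (pow_ne_zero _ (Fact.out : p.Prime).ne_zero)
    (hk ▸ pow_dvd_pow p (Nat.le_succ j)), hk, pow_succ,
    Nat.mul_div_cancel_left _ (pow_pos (Fact.out : p.Prime).pos j)]

/-- An inverted `p`-element gives a dihedral section. -/
theorem involves_dihedral_of_inverted [Fact p.Prime] (hp : p ≠ 2) {x y : G}
    (hx : ∃ k : ℕ, orderOf x = 2 ^ k) (hy : ∃ k : ℕ, orderOf y = p ^ k) (hy1 : y ≠ 1)
    (hinv : x * y * x⁻¹ = y⁻¹) : Cfsg.Involves (DihedralGroup p) G := by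
  have hpo : Odd p := (Fact.out : p.Prime).odd_of_ne_two hp
  obtain ⟨m, hm⟩ := exists_orderOf_prime hy hy1
  set z := y ^ m with hz
  have hzinv : x * z * x⁻¹ = z⁻¹ := by rw [hz, ← conj_pow, hinv, inv_pow]
  have hz2 : x ^ 2 * z = z * x ^ 2 := by
    have h : x * (x * z * x⁻¹) * x⁻¹ = z := by rw [hzinv, ← conj_inv, hzinv, inv_inv]
    rw [conj_two] at h
    exact mul_inv_eq_iff_eq_mul.1 h
  let K : Subgroup G := Subgroup.closure {x, z}
  have hxK : x ∈ K := Subgroup.subset_closure (by simp)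
  have hzK : z ∈ K := Subgroup.subset_closure (by simp)
  let X : ↥K := ⟨x, hxK⟩
  let A : ↥K := ⟨z, hzK⟩
  let R : Subgroup ↥K := Subgroup.zpowers (X ^ 2)
  have hcen : X ^ 2 ∈ Subgroup.center ↥K := by
    rw [Subgroup.mem_center_iff]
    rintro ⟨g, hg⟩
    apply Subtype.ext
    show g * x ^ 2 = x ^ 2 * g
    induction hg using Subgroup.closure_induction with
    | mem g hg =>
      rcases hg with rfl | rfl
      · exact (Commute.pow_right (Commute.refl _) 2).eq
      · exact hz2.symm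
    | one => simp
    | mul a b _ _ ha hb => rw [mul_assoc, hb, ← mul_assoc, ha, mul_assoc]
    | inv a _ ha => exact (Commute.inv_left (show Commute a (x ^ 2) from ha)).eq
  have hRn : R.Normal := by
    have hle : R ≤ Subgroup.center ↥K := Subgroup.zpowers_le.2 hcen
    exact ⟨fun n hn g => by
      rw [Subgroup.mem_center_iff.1 (hle hn) g, mul_inv_cancel_right]; exact hn⟩
  -- elements of `R` commute with `x`
  have hRx : ∀ g : ↥K, g ∈ R → Commute x (g : G) := by
    intro g hg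
    obtain ⟨i, rfl⟩ := Subgroup.mem_zpowers_iff.1 hg
    show Commute x ((x ^ 2) ^ i)
    exact ((Commute.refl x).pow_right 2).zpow_right i
  let q := QuotientGroup.mk' R
  have ha : orderOf (q A) = p := by
    apply orderOf_eq_prime
    · rw [← map_pow, show A ^ p = 1 from Subtype.ext (show z ^ p = 1 by rw [← hm, pow_orderOf_eq_one]),
        map_one]
    · intro h
      have h1 := hRx A ((QuotientGroup.eq_one_iff A).1 h)
      have h2 : z = z⁻¹ := by rw [← hzinv, show x * (z : G) = z * x from h1.eq, mul_inv_cancel_right]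
      have h3 := eq_one_of_eq_inv_of_odd h2 hpo (k := 1) (by rw [pow_one, ← hm, pow_orderOf_eq_one])
      rw [h3, orderOf_one] at hm
      exact (Fact.out : p.Prime).ne_one hm.symm
  have hX2 : q X ^ 2 = 1 := by
    rw [← map_pow]; exact (QuotientGroup.eq_one_iff _).2 (Subgroup.mem_zpowers _)
  have hqinv : q X * q A * (q X)⁻¹ = (q A)⁻¹ := by
    rw [← map_inv, ← map_inv, ← map_mul, ← map_mul]
    exact congrArg q (Subtype.ext hzinv)
  haveI : NeZero p := ⟨(Fact.out : p.Prime).ne_zero⟩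
  -- the map from the dihedral group
  let f : DihedralGroup p → ↥K ⧸ R := fun g => match g with
    | .r i => q A ^ i.val
    | .sr i => q X * q A ^ i.val
  have hxx : q X * q X = 1 := by rw [← sq, hX2]
  have hmul : ∀ g h : DihedralGroup p, f (g * h) = f g * f h := by
    rintro (i | i) (j | j)
    · rw [DihedralGroup.r_mul_r]; exact pow_zmod_val_add ha i j
    · rw [DihedralGroup.r_mul_sr]
      show q X * q A ^ (j - i).val = q A ^ i.val * (q X * q A ^ j.val)
      rw [pow_zmod_val_sub ha, ← mul_assoc (q A ^ i.val), pow_mul_of_inverts hqinv,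
        mul_assoc (q X), (Commute.pow_pow_self (q A) j.val i.val).inv_right.eq]
    · rw [DihedralGroup.sr_mul_r]
      show q X * q A ^ (i + j).val = q X * q A ^ i.val * q A ^ j.val
      rw [pow_zmod_val_add ha, mul_assoc]
    · rw [DihedralGroup.sr_mul_sr]
      show q A ^ (j - i).val = q X * q A ^ i.val * (q X * q A ^ j.val)
      rw [pow_zmod_val_sub ha, ← mul_assoc (q X * q A ^ i.val), mul_assoc (q X) (q A ^ i.val) (q X),
        pow_mul_of_inverts hqinv, ← mul_assoc (q X) (q X), hxx, one_mul,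
        (Commute.pow_pow_self (q A) j.val i.val).inv_right.eq]
  let F : DihedralGroup p →* ↥K ⧸ R := MonoidHom.mk' f hmul
  have hqX : q X ∉ Subgroup.zpowers (q A) := by
    intro h
    obtain ⟨i, hi⟩ := Subgroup.mem_zpowers_iff.1 h
    have h1 : q X * q A * (q X)⁻¹ = q A := by
      rw [← hi, ((Commute.refl (q A)).zpow_left i).eq, mul_inv_cancel_right]
    rw [hqinv] at h1
    have h3 := eq_one_of_eq_inv_of_odd h1.symm hpo (k := 1)
      (by rw [pow_one, ← ha, pow_orderOf_eq_one])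
    rw [h3, orderOf_one] at ha
    exact (Fact.out : p.Prime).ne_one ha.symm
  have hinj : Function.Injective F := by
    rw [injective_iff_map_eq_one]
    rintro (i | i) h
    · have h' : q A ^ i.val = q A ^ 0 := by rw [pow_zero]; exact h
      rw [pow_eq_pow_iff_modEq, ha] at h'
      rw [(ZMod.val_eq_zero i).mp (h'.eq_of_lt_of_lt i.val_lt (NeZero.pos p))]
      exact DihedralGroup.one_def.symm
    · refine absurd ?_ hqX
      have h' : q X * q A ^ i.val = 1 := h
      rw [eq_inv_of_mul_eq_one_left h']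
      exact Subgroup.inv_mem _ (Subgroup.pow_mem _ (Subgroup.mem_zpowers _) _)
  have hsurj : Function.Surjective F := by
    intro c
    obtain ⟨⟨g, hg⟩, rfl⟩ := QuotientGroup.mk'_surjective R c
    have key : q ⟨g, hg⟩ ∈ F.range := by
      induction hg using Subgroup.closure_induction with
      | mem g hg =>
        rcases hg with rfl | rfl
        · exact ⟨.sr 0, show q X * q A ^ (0 : ZMod p).val = _ by rw [ZMod.val_zero, pow_zero, mul_one]⟩
        · refine ⟨.r 1, show q A ^ (1 : ZMod p).val = _ from ?_⟩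
          haveI := Fact.mk (Fact.out : p.Prime).one_lt
          rw [ZMod.val_one, pow_one]
      | one => exact one_mem _
      | mul a b ha hb iha ihb => exact (map_mul q ⟨a, ha⟩ ⟨b, hb⟩) ▸ mul_mem iha ihb
      | inv a ha iha => exact (map_inv q ⟨a, ha⟩) ▸ inv_mem iha
    exact key
  exact involves_of_hom K ((MulEquiv.ofBijective F ⟨hinj, hsurj⟩).symm.toMonoidHom.comp q)
    ((MulEquiv.ofBijective F ⟨hinj, hsurj⟩).symm.surjective.comp (QuotientGroup.mk'_surjective R))

/-- A section with a two-element acting nontrivially on a normal `p`-subgroup lifts. -/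
theorem exists_normalizing_of_section [Finite G] [Fact p.Prime] {H : Type*} [Group H]
    (hp : p ≠ 2) (K : Subgroup G) (φ : ↥K →* H) (hφ : Function.Surjective φ) {M : Subgroup H}
    [M.Normal]
    (hM : IsPGroup p ↥M) {a : H} (ha : a ^ 2 = 1) (haM : a ∉ Subgroup.centralizer (M : Set H)) :
    ∃ (x : G) (P : Subgroup G), (∃ k : ℕ, orderOf x = 2 ^ k) ∧ IsPGroup p ↥P ∧
      x ∈ Subgroup.normalizer (P : Set G) ∧ x ∉ Subgroup.centralizer (P : Set G) := by
  obtain ⟨S⟩ : Nonempty (Sylow p ↥(M.comap φ)) := inferInstance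
  set Q : Subgroup ↥K := (S : Subgroup ↥(M.comap φ)).map (M.comap φ).subtype with hQ
  have hfr : Subgroup.normalizer (Q : Set ↥K) ⊔ M.comap φ = ⊤ := Sylow.normalizer_sup_eq_top S
  have : Finite H := Finite.of_surjective φ hφ
  -- `Q` maps onto `M`
  have hQM : Q.map φ = M := by
    have hs : Function.Surjective (φ.subgroupComap M) := by
      intro m
      obtain ⟨k, hk⟩ := hφ m
      exact ⟨⟨k, show φ k ∈ M by rw [hk]; exact m.2⟩, Subtype.ext hk⟩
    have h1 : ((S.mapSurjective hs : Sylow p ↥M) : Subgroup ↥M) = ⊤ := by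
      obtain ⟨T⟩ : Nonempty (Sylow p ↥M) := inferInstance
      have hT := (T.is_maximal' (hM.to_subgroup ⊤) le_top).symm
      obtain ⟨g, hg⟩ := MulAction.exists_smul_eq ↥M T (S.mapSurjective hs)
      rw [← hg, Sylow.coe_subgroup_smul, hT]
      exact top_le_iff.1 fun m _ => ⟨g⁻¹ * m * g, trivial, by
        show g * (g⁻¹ * m * g) * g⁻¹ = m
        group⟩
    rw [Sylow.coe_mapSurjective] at h1
    have h2 := congrArg (Subgroup.map M.subtype) h1
    rw [Subgroup.map_map, ← MonoidHom.range_eq_map, Subgroup.range_subtype] at h2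
    rw [hQ, Subgroup.map_map]
    exact h2
  -- a lift of `a` normalising `Q`
  obtain ⟨k, hk⟩ := hφ a
  have hmem : k ∈ Subgroup.normalizer (Q : Set ↥K) ⊔ M.comap φ := by rw [hfr]; trivial
  rw [Subgroup.mem_sup_of_normal_right] at hmem
  obtain ⟨n, hn, m, hm, rfl⟩ := hmem
  have hnC : φ n ∉ Subgroup.centralizer (M : Set H) ∨ φ m ∉ Subgroup.centralizer (M : Set H) := by
    by_contra hc
    push Not at hc
    exact haM (hk ▸ map_mul φ n m ▸ mul_mem hc.1 hc.2)
  -- it suffices to find some normalising two-element acting nontrivially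
  suffices h : ∃ x : ↥K, (∃ j : ℕ, orderOf x = 2 ^ j) ∧ x ∈ Subgroup.normalizer (Q : Set ↥K) ∧
      φ x ∉ Subgroup.centralizer (M : Set H) by
    obtain ⟨x, ⟨j, hj⟩, hxN, hxC⟩ := h
    refine ⟨x, Q.map K.subtype, ⟨j, by rw [Subgroup.orderOf_coe, hj]⟩, (S.2.map _).map _, ?_, ?_⟩
    · exact Subgroup.le_normalizer_map K.subtype ⟨x, hxN, rfl⟩
    · intro hc
      apply hxC
      rw [Subgroup.mem_centralizer_iff] at hc ⊢
      intro v hv
      rw [SetLike.mem_coe, ← hQM] at hv
      obtain ⟨w, hw, rfl⟩ := hv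
      rw [← map_mul, ← map_mul]
      exact congrArg φ (Subtype.ext (hc w ⟨w, hw, rfl⟩))
  obtain ⟨e, ⟨t, ht⟩, j, hj⟩ := exists_two_part n
  refine ⟨n ^ e, ⟨j, hj⟩, pow_mem hn e, ?_⟩
  intro hc
  -- `φ n` acts as an involution on `M`, so agrees with its odd powers
  have hm' : φ m ∈ M := hm
  have hn2 : φ n ^ 2 ∈ M ⊔ Subgroup.centralizer (M : Set H) := by
    apply Subgroup.mem_sup_left
    have h1 : φ n = a * (φ m)⁻¹ := by rw [← hk, map_mul, mul_inv_cancel_right]
    rw [h1, sq, show a * (φ m)⁻¹ * (a * (φ m)⁻¹) =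
      (a * (φ m)⁻¹ * a⁻¹) * (a ^ 2 * (φ m)⁻¹) by group, ha, one_mul]
    exact M.mul_mem (Subgroup.Normal.conj_mem inferInstance _ (M.inv_mem hm') a) (M.inv_mem hm')
  have hne : φ n ∈ M ⊔ Subgroup.centralizer (M : Set H) := by
    have h1 : φ (n ^ e) ∈ M ⊔ Subgroup.centralizer (M : Set H) := Subgroup.mem_sup_right hc
    rw [map_pow, ht, pow_succ, pow_mul] at h1
    exact (Subgroup.mul_mem_cancel_left _ (pow_mem hn2 t)).1 h1
  have haMC : a ∈ M ⊔ Subgroup.centralizer (M : Set H) := by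
    rw [← hk, map_mul]; exact mul_mem hne (Subgroup.mem_sup_left hm')
  -- an involution inducing an inner automorphism by an element of the `p`-group `M`
  rw [Subgroup.mem_sup_of_normal_left] at haMC
  obtain ⟨u, hu, c, hcc, huc⟩ := haMC
  apply haM
  have hCn : (Subgroup.centralizer (M : Set H)).Normal := Subgroup.normal_centralizer
  have hu2 : u ^ 2 ∈ Subgroup.centralizer (M : Set H) := by
    have h1 : u ^ 2 * (u⁻¹ * c * u) * c = 1 := by
      rw [← ha, ← huc]; simp only [sq]; group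
    rw [mul_assoc, mul_eq_one_iff_eq_inv] at h1
    rw [h1]
    refine inv_mem (mul_mem ?_ hcc)
    simpa using hCn.conj_mem c hcc u⁻¹
  obtain ⟨l, hl⟩ := hM ⟨u, hu⟩
  obtain ⟨s, hs⟩ := ((Fact.out : p.Prime).odd_of_ne_two hp).pow (n := l)
  have h1 : u ^ (2 * s + 1) = 1 := by rw [← hs]; exact congrArg Subtype.val hl
  have h3 : (u ^ 2) ^ (s + 1) = u := by
    rw [← pow_mul, mul_add, mul_one, show 2 * s + 2 = (2 * s + 1) + 1 by ring, pow_succ, h1, one_mul]
  rw [← huc]
  exact mul_mem (h3 ▸ pow_mem hu2 _) hcc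

end Cfsg.Agent.Lib.LAEven54.Inverted
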