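import Cfsg.Prelude.Def_PLocal
import Cfsg.Agent.Lib.CosetGraph.SylowIn
import Cfsg.Agent.Lib.PGroups.Frattini
import Mathlib.GroupTheory.Transfer
import Mathlib.GroupTheory.Abelianization.Defs
import Mathlib.Algebra.Group.ForwardDiff

/-!
The transfer theorem of Wielandt and Yoshida for a weakly closed subgroup.

`exists_witness`: if `W` is weakly closed in the Sylow subgroup `S` and `S ∩ G' ≠ S ∩ N(W)'`, there are
`x ∈ S`, `z ∈ W` and a maximal subgroup `W₀` of `W` with `[x, z; p - 1] ∈ W₀ \ Φ(W₀)`.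
-/

set_option autoImplicit false
set_option linter.unusedSectionVars false

namespace Cfsg.Agent.Lib.LAEven54.Yoshida

open Cfsg Cfsg.Agent.Lib.CosetGraph.SylowIn
open scoped fwdDiff commutatorElement

section Transfer

variable {K : Type*} [Group K] {H : Subgroup K} {A : Type*} [CommGroup A]

open scoped Classical in
/-- A homomorphism of a subgroup extended by `1`. -/
noncomputable def hat (φ : ↥H →* A) (k : K) : A := if h : k ∈ H then φ ⟨k, h⟩ else 1

theorem hat_of_mem (φ : ↥H →* A) {k : K} (h : k ∈ H) : hat φ k = φ ⟨k, h⟩ := by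
  classical
  exact dif_pos h

theorem hat_mul (φ : ↥H →* A) {a b : K} (ha : a ∈ H) (hb : b ∈ H) :
    hat φ (a * b) = hat φ a * hat φ b := by
  rw [hat_of_mem φ ha, hat_of_mem φ hb, hat_of_mem φ (H.mul_mem ha hb), ← map_mul]; rfl

theorem hat_pow (φ : ↥H →* A) {a : K} (ha : a ∈ H) (n : ℕ) : hat φ (a ^ n) = hat φ a ^ n := by
  rw [hat_of_mem φ ha, hat_of_mem φ (H.pow_mem ha n), ← map_pow]; rfl

theorem hat_conj (φ : ↥H →* A) {n y : K} (hn : n ∈ H) (hy : y ∈ H) :
    hat φ (n * y * n⁻¹) = hat φ y := by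
  rw [hat_mul φ (H.mul_mem hn hy) (H.inv_mem hn), hat_mul φ hn hy, mul_right_comm,
    ← hat_mul φ hn (H.inv_mem hn), mul_inv_cancel, hat_of_mem φ H.one_mem]
  exact (congrArg (· * hat φ y) (map_one φ)).trans (one_mul _)

/-- Independence of the chosen representative of a fixed coset. -/
theorem hat_out (φ : ↥H →* A) (g t : K) (h : g⁻¹ * t * g ∈ H) :
    hat φ ((g : K ⧸ H).out⁻¹ * t * (g : K ⧸ H).out) = hat φ (g⁻¹ * t * g) := by
  obtain ⟨n, hn⟩ := QuotientGroup.mk_out_eq_mul H g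
  have : (g : K ⧸ H).out⁻¹ * t * (g : K ⧸ H).out = (n : K)⁻¹ * (g⁻¹ * t * g) * (n : K)⁻¹⁻¹ := by
    rw [hn]; group
  rw [this, hat_conj φ (H.inv_mem n.2) h]

variable [Finite K] (φ : ↥H →* A) (t : K)

theorem minimalPeriod_dvd (x : K ⧸ H) : Function.minimalPeriod (t • ·) x ∣ orderOf t := by
  refine Function.IsPeriodicPt.minimalPeriod_dvd ?_
  show (t • ·)^[orderOf t] x = x
  rw [smul_iterate, pow_orderOf_eq_one]
  exact one_smul K x

theorem transfer_pow_eq_one (k : ℕ)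
    (h : ∀ (g : K) (l : ℕ), l ∣ orderOf t → g⁻¹ * t ^ l * g ∈ H → hat φ (g⁻¹ * t ^ l * g) ^ k = 1) :
    MonoidHom.transfer φ t ^ k = 1 := by
  classical
  haveI : Fintype (Quotient (MulAction.orbitRel (Subgroup.zpowers t) (K ⧸ H))) := Fintype.ofFinite _
  rw [MonoidHom.transfer_eq_prod_quotient_orbitRel_zpowers_quot, ← Finset.prod_pow]
  refine Finset.prod_eq_one fun q _ => ?_
  have hm := QuotientGroup.out_conj_pow_minimalPeriod_mem H t q.out
  rw [← hat_of_mem φ hm]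
  exact h _ _ (minimalPeriod_dvd t _) hm

open scoped Classical in
theorem transfer_eq_prod_fixed [Fintype (K ⧸ H)]
    (h : ∀ (g : K) (l : ℕ), l ∣ orderOf t → l ≠ 1 → g⁻¹ * t ^ l * g ∈ H →
      hat φ (g⁻¹ * t ^ l * g) = 1) :
    MonoidHom.transfer φ t =
      ∏ x ∈ Finset.univ.filter (fun x : K ⧸ H => t • x = x), hat φ (x.out⁻¹ * t * x.out) := by
  haveI : Fintype (Quotient (MulAction.orbitRel (Subgroup.zpowers t) (K ⧸ H))) := Fintype.ofFinite _
  rw [MonoidHom.transfer_eq_prod_quotient_orbitRel_zpowers_quot,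
    ← Finset.prod_filter_of_ne
      (p := fun q : Quotient (MulAction.orbitRel (Subgroup.zpowers t) (K ⧸ H)) => t • q.out = q.out)]
  · refine Finset.prod_bij (fun q _ => q.out) (fun q hq => by simpa using hq) ?_ ?_ ?_
    · intro q₁ _ q₂ _ he
      exact Quotient.out_inj.1 he
    · intro x hx
      have hx' : t • x = x := by simpa using hx
      let q : Quotient (MulAction.orbitRel (Subgroup.zpowers t) (K ⧸ H)) := ⟦x⟧
      have hq : q.out = x := by
        have h1 : MulAction.orbitRel (Subgroup.zpowers t) (K ⧸ H) q.out x :=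
          Quotient.exact (Quotient.out_eq q)
        rw [MulAction.orbitRel_apply] at h1
        obtain ⟨⟨a, ha⟩, hax⟩ := h1
        rw [← hax]
        obtain ⟨i, rfl⟩ := Subgroup.mem_zpowers_iff.1 ha
        show t ^ i • x = x
        exact (MulAction.mem_stabilizer_iff.1 ((MulAction.stabilizer K x).zpow_mem hx' i))
      exact ⟨q, Finset.mem_filter.2 ⟨Finset.mem_univ _, by rw [hq]; exact hx'⟩, hq⟩
    · intro q hq
      have h1 : Function.minimalPeriod (t • ·) q.out = 1 :=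
        Function.minimalPeriod_eq_one_iff_isFixedPt.2 (Finset.mem_filter.1 hq).2
      rw [← hat_of_mem φ, h1, pow_one]
  · intro q _ hne
    by_contra hq
    apply hne
    have hm := QuotientGroup.out_conj_pow_minimalPeriod_mem H t q.out
    rw [← hat_of_mem φ hm]
    refine h _ _ (minimalPeriod_dvd t _) (fun h1 => hq ?_) hm
    exact Function.minimalPeriod_eq_one_iff_isFixedPt.1 h1

end Transfer

/-- Alternating binomial coefficients of `p - 1` are `1` modulo `p`. -/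
theorem choose_pred_prime {p : ℕ} [Fact p.Prime] : ∀ {k : ℕ}, k ≤ p - 1 →
    ((p - 1).choose k : ZMod p) = (-1) ^ k
  | 0, _ => by simp
  | k + 1, hk => by
    have ih := choose_pred_prime (p := p) (k := k) (by omega)
    have hp : p - 1 + 1 = p := Nat.sub_add_cancel (Fact.out : p.Prime).one_le
    have h1 : (p.choose (k + 1) : ZMod p) = 0 := by
      rw [ZMod.natCast_eq_zero_iff]
      have := (Fact.out : p.Prime).two_le
      exact (Fact.out : p.Prime).dvd_choose_self (Nat.succ_ne_zero k) (by omega)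
    have h2 : p.choose (k + 1) = (p - 1).choose k + (p - 1).choose (k + 1) := by
      conv_lhs => rw [← hp]
      rw [Nat.choose_succ_succ']
    rw [h2, Nat.cast_add, ih] at h1
    rw [pow_succ]
    linear_combination h1

theorem fwdDiff_iterate_eq_sum {A : Type*} [AddCommGroup A] {p : ℕ} [Fact p.Prime] (a : ℕ → A)
    (ha : ∀ k, p • a k = 0) :
    (fwdDiff 1)^[p - 1] a 0 = ∑ k ∈ Finset.range p, a k := by
  have hp : p - 1 + 1 = p := Nat.sub_add_cancel (Fact.out : p.Prime).one_le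
  rw [fwdDiff_iter_eq_sum_shift, hp]
  refine Finset.sum_congr rfl fun k hk => ?_
  rw [zero_add, smul_eq_mul, mul_one]
  have hk' : k ≤ p - 1 := by have := Finset.mem_range.1 hk; omega
  have h1 : (((-1 : ℤ) ^ (p - 1 - k) * ((p - 1).choose k : ℕ) - 1 : ℤ) : ZMod p) = 0 := by
    push_cast
    rw [choose_pred_prime hk', ← pow_add, Nat.sub_add_cancel hk', ZMod.pow_card_sub_one_eq_one, sub_self]
    exact neg_ne_zero.2 one_ne_zero
  rw [ZMod.intCast_zmod_eq_zero_iff_dvd] at h1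
  obtain ⟨c, hc⟩ := h1
  rw [sub_eq_iff_eq_add] at hc
  rw [hc, add_smul, one_smul, mul_comm, mul_smul, natCast_zsmul, ha, smul_zero, zero_add]

/-- An element of the Frattini subgroup is a `p`-th power in every abelian image. -/
theorem exists_pow_of_mem_frattini {P : Type*} [Group P] [Finite P] {p : ℕ} [Fact p.Prime]
    (hP : IsPGroup p P) {w : P} (hw : w ∈ frattini P) :
    ∃ a : P, Abelianization.of w = Abelianization.of a ^ p := by
  have hle : frattini P ≤ ((powMonoidHom p).comp (Abelianization.of (G := P))).range.comap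
      Abelianization.of := by
    rw [PGroups.frattini_eq_sup hP]
    refine sup_le (fun c hc => ?_) ((Subgroup.closure_le _).2 ?_)
    · refine ⟨1, ?_⟩
      rw [(Abelianization.commutator_subset_ker Abelianization.of hc : Abelianization.of c = 1)]
      simp
    · rintro _ ⟨x, rfl⟩
      exact ⟨x, by simp⟩
  obtain ⟨a, ha⟩ := hle hw
  exact ⟨a, by simpa using ha.symm⟩

variable {G : Type*} [Group G] [Finite G] {p : ℕ} [Fact p.Prime]

/-- The commutator `[·, z]`. -/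
def D (z y : G) : G := y⁻¹ * z⁻¹ * y * z

/-- The conclusion of the transfer theorem. -/
def Witness (p : ℕ) (S W : Subgroup G) : Prop :=
  ∃ x ∈ S, ∃ z ∈ W, ∃ W₀ : Subgroup ↥W, IsCoatom W₀ ∧ z ∉ W₀.map W.subtype ∧
    (x ∈ W → x ∈ W₀.map W.subtype) ∧ (D z)^[p - 1] x ∈ W₀.map W.subtype ∧
    (D z)^[p - 1] x ∉ ((frattini ↥W₀).map W₀.subtype).map W.subtype

variable {S : Sylow p G} {W N : Subgroup G} {A : Type*} [CommGroup A] {μ : ↥N →* A}

theorem conj_mem_sylow (hSN : (S : Subgroup G) ≤ N) {y : G} (hy : y ∈ N)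
    (hp : ∃ k, orderOf y = p ^ k) : ∃ n ∈ N, n * y * n⁻¹ ∈ (S : Subgroup G) := by
  obtain ⟨k, hk⟩ := hp
  have hS : IsSylowIn p (S : Subgroup G) N :=
    (show IsSylowIn p (S : Subgroup G) ⊤ from
      ⟨le_top, by rw [Subgroup.card_top, S.card_eq_multiplicity]⟩).of_le_le hSN le_top
  obtain ⟨T, hT, hyT⟩ := IsSylowIn.exists_le (p := p)
    (IsPGroup.of_card (n := k) (by rw [Nat.card_zpowers, hk])) (Subgroup.zpowers_le.2 hy)
  obtain ⟨n, hn, hnT⟩ := hT.exists_conj hS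
  exact ⟨n, hn, hnT ▸ Subgroup.mem_map_of_mem _ (hyT (Subgroup.mem_zpowers y))⟩

theorem orderOf_conj' (g a : G) : orderOf (g * a * g⁻¹) = orderOf a :=
  orderOf_injective (MulAut.conj g).toMonoidHom (MulAut.conj g).injective a

theorem orderOf_inv_conj (g a : G) : orderOf (g⁻¹ * a * g) = orderOf a := by
  simpa using orderOf_conj' g⁻¹ a

theorem exists_pow_prime_of_mem {a : G}
    (haS : a ∈ (S : Subgroup G)) : ∃ k, orderOf a = p ^ k := by
  obtain ⟨k, hk⟩ := IsPGroup.iff_orderOf.1 S.2 ⟨a, haS⟩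
  exact ⟨k, (Subgroup.orderOf_coe ⟨a, haS⟩).trans hk⟩

/-- Fusion invariance of `μ ^ p` on `S`, given that it kills `S ∩ G'`. -/
theorem hat_pow_stable (hSN : (S : Subgroup G) ≤ N)
    (hkill : ∀ u ∈ (S : Subgroup G), u ∈ commutator G → hat μ u ^ p = 1) {a g : G} {l : ℕ}
    (ha : a ∈ (S : Subgroup G)) (hm : g⁻¹ * a ^ l * g ∈ N) :
    hat μ (g⁻¹ * a ^ l * g) ^ p = hat μ a ^ (l * p) := by
  obtain ⟨n, hn, hnS⟩ := conj_mem_sylow hSN hm (by
    rw [orderOf_inv_conj]
    exact exists_pow_prime_of_mem ((S : Subgroup G).pow_mem ha l))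
  set y := g⁻¹ * a ^ l * g
  have hc : (a ^ l)⁻¹ * (n * y * n⁻¹) ∈ commutator G := by
    rw [show (a ^ l)⁻¹ * (n * y * n⁻¹) = ⁅(a ^ l)⁻¹, n * g⁻¹⁆ by
      simp only [y, commutatorElement_def]; group]
    exact Subgroup.commutator_mem_commutator (Subgroup.mem_top _) (Subgroup.mem_top _)
  have h1 := hkill _ ((S : Subgroup G).mul_mem ((S : Subgroup G).inv_mem ((S : Subgroup G).pow_mem ha l)) hnS) hc
  rw [hat_mul μ (N.inv_mem (N.pow_mem (hSN ha) l)) (hSN hnS), hat_conj μ hn hm, mul_pow] at h1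
  have h2 : hat μ (a ^ l)⁻¹ * hat μ (a ^ l) = 1 := by
    rw [← hat_mul μ (N.inv_mem (N.pow_mem (hSN ha) l)) (N.pow_mem (hSN ha) l), inv_mul_cancel,
      hat_of_mem μ N.one_mem]
    exact map_one μ
  rw [pow_mul, ← hat_pow μ (hSN ha)]
  rw [eq_inv_of_mul_eq_one_left h2, inv_pow, inv_mul_eq_one] at h1
  exact h1.symm

/-- Terms of smaller order vanish. -/
theorem hat_conj_pow_eq_one (hSN : (S : Subgroup G) ≤ N) {u : G} (huc : u ∈ commutator G)
    (huS : u ∈ (S : Subgroup G))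
    (IH : ∀ y ∈ (S : Subgroup G), y ∈ commutator G → orderOf y < orderOf u → hat μ y = 1)
    {g : G} {l : ℕ} (hl : p ∣ l) (hm : g⁻¹ * u ^ l * g ∈ N) : hat μ (g⁻¹ * u ^ l * g) = 1 := by
  obtain ⟨n, hn, hnS⟩ := conj_mem_sylow hSN hm (by
    rw [orderOf_inv_conj]
    exact exists_pow_prime_of_mem ((S : Subgroup G).pow_mem huS l))
  rw [← hat_conj μ hn hm]
  by_cases hu1 : u = 1
  · rw [show n * (g⁻¹ * u ^ l * g) * n⁻¹ = 1 by rw [hu1]; group, hat_of_mem μ N.one_mem]
    exact map_one μ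
  refine IH _ hnS ?_ ?_
  · refine (inferInstance : (commutator G).Normal).conj_mem _ ?_ _
    simpa using (inferInstance : (commutator G).Normal).conj_mem _ ((commutator G).pow_mem huc l) g⁻¹
  · rw [orderOf_conj', orderOf_inv_conj]
    obtain ⟨c, rfl⟩ := hl
    obtain ⟨k, hk⟩ := exists_pow_prime_of_mem huS
    have hk0 : k ≠ 0 := fun h => hu1 (orderOf_eq_one_iff.1 (by rw [hk, h, pow_zero]))
    rw [pow_mul]
    refine lt_of_le_of_lt (Nat.le_of_dvd (orderOf_pos _) (orderOf_pow_dvd c)) ?_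
    rw [orderOf_pow_of_dvd (Fact.out : p.Prime).ne_zero (hk ▸ dvd_pow_self p hk0)]
    exact Nat.div_lt_self (orderOf_pos u) (Fact.out : p.Prime).one_lt

open scoped Classical in
/-- The contribution of a non-trivial orbit of `⟨u⟩W` on the cosets of `N`. -/
theorem orbit_prod_eq_one [Fintype (G ⧸ N)] (hWS : W ≤ (S : Subgroup G))
    (hSN : (S : Subgroup G) ≤ N) (hWn : N ≤ Subgroup.normalizer (W : Set G))
    (hno : ¬ Witness p (S : Subgroup G) W)
    (hkill : ∀ u ∈ (S : Subgroup G), u ∈ commutator G → hat μ u ^ p = 1)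
    {u : G} (huS : u ∈ (S : Subgroup G)) (huc : u ∈ commutator G)
    (IH : ∀ y ∈ (S : Subgroup G), y ∈ commutator G → orderOf y < orderOf u → hat μ y = 1)
    (x₀ : G ⧸ N) (hx₀ : u • x₀ = x₀) (hmove : ∃ w ∈ W, w • x₀ ≠ x₀) :
    ∏ x ∈ Finset.univ.filter (fun x : G ⧸ N => u • x = x ∧ ∃ v ∈ Subgroup.zpowers u ⊔ W, v • x₀ = x),
      hat μ (x.out⁻¹ * u * x.out) = 1 := by
  set U := Subgroup.zpowers u ⊔ W with hU
  have hUS : U ≤ (S : Subgroup G) := sup_le (Subgroup.zpowers_le.2 huS) hWS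
  have hUp : IsPGroup p ↥U := S.2.to_le hUS
  set R : Subgroup ↥U := (MulAction.stabilizer G x₀).subgroupOf U with hR
  have hRne : R ≠ ⊤ := by
    obtain ⟨w, hw, hwx⟩ := hmove
    intro h
    apply hwx
    have h1 : (⟨w, Subgroup.mem_sup_right hw⟩ : ↥U) ∈ R := h ▸ Subgroup.mem_top _
    exact h1
  obtain ⟨T₀, hT₀, hRT⟩ := (eq_top_or_exists_le_coatom R).resolve_left hRne
  haveI hT₀n : T₀.Normal := PGroups.coatom_normal hUp hT₀
  have hT₀i : T₀.index = p := PGroups.coatom_index hUp hT₀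
  let uU : ↥U := ⟨u, Subgroup.mem_sup_left (Subgroup.mem_zpowers u)⟩
  have huT : uU ∈ T₀ := hRT hx₀
  obtain ⟨z, hzW, hzT⟩ : ∃ z, ∃ (hz : z ∈ W), (⟨z, Subgroup.mem_sup_right hz⟩ : ↥U) ∉ T₀ := by
    by_contra hc
    push Not at hc
    apply hT₀.1
    rw [eq_top_iff]
    rintro ⟨v, hv⟩ -
    have hle : U ≤ T₀.map U.subtype := sup_le
      (Subgroup.zpowers_le.2 ⟨uU, huT, rfl⟩) (fun w hw => ⟨⟨w, Subgroup.mem_sup_right hw⟩, hc w hw, rfl⟩)
    obtain ⟨v', hv', he⟩ := hle hv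
    exact (Subtype.ext he : v' = ⟨v, hv⟩) ▸ hv'
  let zU : ↥U := ⟨z, Subgroup.mem_sup_right hzW⟩
  -- cosets of `T₀`
  have hzp : zU ^ p ∈ T₀ := by
    have := T₀.pow_index_mem zU; rwa [hT₀i] at this
  have hcos : Function.Bijective fun i : Fin p => ((zU ^ (i : ℕ) : ↥U) : ↥U ⧸ T₀) := by
    have hinj : Function.Injective fun i : Fin p => ((zU ^ (i : ℕ) : ↥U) : ↥U ⧸ T₀) := by
      intro i j hij
      have h1 : ((zU : ↥U ⧸ T₀)) ^ (i : ℕ) = (zU : ↥U ⧸ T₀) ^ (j : ℕ) := by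
        rw [← QuotientGroup.mk_pow, ← QuotientGroup.mk_pow]; exact hij
      have h2 : orderOf (zU : ↥U ⧸ T₀) = p := orderOf_eq_prime
        (by rw [← QuotientGroup.mk_pow]; exact (QuotientGroup.eq_one_iff _).2 hzp)
        (fun h => hzT ((QuotientGroup.eq_one_iff _).1 h))
      rw [pow_eq_pow_iff_modEq, h2] at h1
      exact Fin.ext (h1.eq_of_lt_of_lt i.2 j.2)
    exact (Nat.bijective_iff_injective_and_card _).2
      ⟨hinj, by rw [Nat.card_fin, ← Subgroup.index_eq_card, hT₀i]⟩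
  -- the transfer to `A`
  set T : Subgroup G := T₀.map U.subtype with hT
  have hTU : T ≤ U := Subgroup.map_subtype_le _
  have hmemT : ∀ v : ↥U, (v : G) ∈ T ↔ v ∈ T₀ := fun v =>
    Subgroup.mem_map_iff_mem U.subtype_injective
  have hTz : ∀ (i : ℕ) {t : G}, t ∈ T → (z ^ i)⁻¹ * t * z ^ i ∈ T := by
    intro i t ht
    obtain ⟨t', ht', rfl⟩ := ht
    refine ⟨(zU ^ i)⁻¹ * t' * zU ^ i, ?_, by simp [zU]⟩
    simpa using hT₀n.conj_mem t' ht' (zU ^ i)⁻¹
  set g₀ := x₀.out with hg₀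
  have hg₀x : (g₀ : G ⧸ N) = x₀ := QuotientGroup.out_eq' x₀
  have hstab : ∀ g : G, g • x₀ = x₀ ↔ g₀⁻¹ * g * g₀ ∈ N := by
    intro g
    rw [← hg₀x]
    show ((g * g₀ : G) : G ⧸ N) = g₀ ↔ _
    rw [eq_comm, QuotientGroup.eq, mul_assoc]
  set R₀ : Subgroup ↥T := MulAction.stabilizer ↥T x₀ with hR₀
  let φ : ↥R₀ →* A := MonoidHom.mk'
    (fun r => μ ⟨g₀⁻¹ * ((r : ↥T) : G) * g₀, (hstab _).1 r.2⟩)
    (fun r s => by rw [← map_mul]; exact congrArg μ (Subtype.ext (by simp [mul_assoc])))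
  have hatφ : ∀ {k : ↥T}, k ∈ R₀ → hat φ k = hat μ (g₀⁻¹ * (k : G) * g₀) := by
    intro k hk
    rw [hat_of_mem φ hk]
    exact (hat_of_mem μ ((hstab _).1 hk)).symm
  haveI : Fintype (↥T ⧸ R₀) := Fintype.ofFinite _
  set ν := MonoidHom.transfer φ with hν
  let uc : ℕ → ↥T := fun i => ⟨(z ^ i)⁻¹ * u * z ^ i, hTz i ((hmemT uU).2 huT)⟩
  have hordu : ∀ i, orderOf (uc i) = orderOf u := fun i => by
    rw [← Subgroup.orderOf_coe]; exact orderOf_inv_conj _ u
  -- terms of the transfer are conjugates of powers of `u`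
  have hterm : ∀ (i : ℕ) (q : ↥T) (l : ℕ), q⁻¹ * uc i ^ l * q ∈ R₀ →
      hat φ (q⁻¹ * uc i ^ l * q) = hat μ ((z ^ i * q * g₀)⁻¹ * u ^ l * (z ^ i * q * g₀)) ∧
      (z ^ i * q * g₀)⁻¹ * u ^ l * (z ^ i * q * g₀) ∈ N := by
    intro i q l hq
    have h1 : g₀⁻¹ * ((q⁻¹ * uc i ^ l * q : ↥T) : G) * g₀
        = (z ^ i * q * g₀)⁻¹ * u ^ l * (z ^ i * q * g₀) := by
      have : ((uc i : ↥T) : G) ^ l = (z ^ i)⁻¹ * u ^ l * z ^ i := by
        show ((z ^ i)⁻¹ * u * z ^ i) ^ l = _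
        simpa using (conj_pow (a := (z ^ i)⁻¹) (b := u) (i := l))
      simp only [Subgroup.coe_mul, InvMemClass.coe_inv, SubgroupClass.coe_pow, this]
      group
    refine ⟨by rw [hatφ hq, h1], ?_⟩
    rw [← h1]
    exact (hstab _).1 hq
  -- `ν (uc i)` is a product over fixed points
  have hνu : ∀ i, ν (uc i) = ∏ q ∈ Finset.univ.filter (fun q : ↥T ⧸ R₀ => uc i • q = q),
      hat φ (q.out⁻¹ * uc i * q.out) := by
    intro i
    have hh : ∀ (q : ↥T) (l : ℕ), l ∣ orderOf (uc i) → l ≠ 1 → q⁻¹ * uc i ^ l * q ∈ R₀ →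
        hat φ (q⁻¹ * uc i ^ l * q) = 1 := by
      intro q l hl hl1 hm
      obtain ⟨h1, h2⟩ := hterm i q l hm
      rw [h1]
      refine hat_conj_pow_eq_one hSN huc huS IH ?_ h2
      obtain ⟨k, hk⟩ := exists_pow_prime_of_mem huS
      rw [hordu, hk] at hl
      obtain ⟨m, -, rfl⟩ := (Nat.dvd_prime_pow Fact.out).1 hl
      exact dvd_pow_self p fun h => hl1 (by rw [h, pow_zero])
    convert transfer_eq_prod_fixed φ (uc i) hh using 1
    refine Finset.prod_congr ?_ fun _ _ => rfl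
    ext; simp
  have hνp : ∀ i, ν (uc i) ^ p = 1 := by
    intro i
    rw [← map_pow, ← pow_one (ν (uc i ^ p))]
    refine transfer_pow_eq_one φ _ 1 fun q l _ hm => ?_
    rw [pow_one, ← pow_mul] at *
    obtain ⟨h1, h2⟩ := hterm i q _ hm
    rw [h1]
    exact hat_conj_pow_eq_one hSN huc huS IH (dvd_mul_right p l) h2
  -- the product over the orbit
  have hprod : ∏ x ∈ Finset.univ.filter (fun x : G ⧸ N => u • x = x ∧ ∃ v ∈ U, v • x₀ = x),
      hat μ (x.out⁻¹ * u * x.out) = ∏ i : Fin p, ν (uc i) := by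
    rw [Finset.prod_congr rfl fun (i : Fin p) _ => hνu (i : ℕ), Finset.prod_sigma']
    symm
    refine Finset.prod_bij
      (fun y _ => ((z ^ (y.1 : ℕ) * (y.2.out : ↥T) : G)) • x₀) ?_ ?_ ?_ ?_
    · rintro ⟨i, q⟩ hy
      simp only [Finset.mem_sigma, Finset.mem_filter, Finset.mem_univ, true_and] at hy ⊢
      refine ⟨?_, _, U.mul_mem (U.pow_mem (Subgroup.mem_sup_right hzW) _) (hTU q.out.2), rfl⟩
      have h1 : (uc i * q.out) • x₀ = (q.out : ↥T) • x₀ := by
        have h2 : (q.out)⁻¹ * (uc i * q.out) ∈ R₀ := by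
          have h3 := hy
          rw [← QuotientGroup.out_eq' q, MulAction.Quotient.smul_mk] at h3
          exact QuotientGroup.eq.1 h3.symm
        have h4 : ((q.out)⁻¹ * (uc i * q.out)) • x₀ = x₀ := h2
        rw [mul_smul, inv_smul_eq_iff] at h4
        exact h4
      have h5 : (((uc i : ↥T) : G) * (q.out : ↥T)) • x₀ = ((q.out : ↥T) : G) • x₀ := h1
      calc u • (z ^ (i : ℕ) * (q.out : ↥T) : G) • x₀
          = z ^ (i : ℕ) • ((((uc i : ↥T) : G) * (q.out : ↥T)) • x₀) := by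
            rw [smul_smul, smul_smul]; congr 1; simp [uc]; group
        _ = (z ^ (i : ℕ) * (q.out : ↥T) : G) • x₀ := by rw [h5, smul_smul]
    · rintro ⟨i, q⟩ _ ⟨j, q'⟩ _ he
      simp only at he
      set a := z ^ (i : ℕ) * ((q.out : ↥T) : G)
      set b := z ^ (j : ℕ) * ((q'.out : ↥T) : G)
      have haU : a ∈ U := U.mul_mem (U.pow_mem (Subgroup.mem_sup_right hzW) _) (hTU q.out.2)
      have hbU : b ∈ U := U.mul_mem (U.pow_mem (Subgroup.mem_sup_right hzW) _) (hTU q'.out.2)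
      have hab : (⟨a, haU⟩ : ↥U)⁻¹ * ⟨b, hbU⟩ ∈ T₀ := hRT (by
        show (a⁻¹ * b) • x₀ = x₀
        rw [mul_smul, ← he, inv_smul_smul])
      have hij : i = j := by
        apply hcos.1
        show ((zU ^ (i : ℕ) : ↥U) : ↥U ⧸ T₀) = ((zU ^ (j : ℕ) : ↥U) : ↥U ⧸ T₀)
        rw [QuotientGroup.eq]
        let qa : ↥U := ⟨q.out, hTU q.out.2⟩
        let qb : ↥U := ⟨q'.out, hTU q'.out.2⟩
        have : (zU ^ (i : ℕ))⁻¹ * zU ^ (j : ℕ) = qa * ((⟨a, haU⟩ : ↥U)⁻¹ * ⟨b, hbU⟩) * qb⁻¹ :=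
          Subtype.ext (by simp [a, b, qa, qb, zU]; group)
        rw [this]
        exact T₀.mul_mem (T₀.mul_mem ((hmemT qa).1 q.out.2) hab) (T₀.inv_mem ((hmemT qb).1 q'.out.2))
      subst hij
      have : q = q' := by
        rw [← QuotientGroup.out_eq' q, ← QuotientGroup.out_eq' q', QuotientGroup.eq]
        show (((q.out)⁻¹ * q'.out : ↥T) : G) • x₀ = x₀
        simp only [a, b, mul_smul, smul_left_cancel_iff] at he
        rw [Subgroup.coe_mul, InvMemClass.coe_inv, mul_smul, ← he, inv_smul_smul]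
      subst this
      rfl
    · intro x hx
      simp only [Finset.mem_filter, Finset.mem_univ, true_and] at hx
      obtain ⟨hux, v, hv, hvx⟩ := hx
      obtain ⟨i, hi⟩ := hcos.2 ((⟨v, hv⟩ : ↥U) : ↥U ⧸ T₀)
      have hi' : (zU ^ (i : ℕ))⁻¹ * ⟨v, hv⟩ ∈ T₀ := QuotientGroup.eq.1 hi
      let t : ↥T := ⟨(z ^ (i : ℕ))⁻¹ * v, (hmemT _).2 hi'⟩
      let q : ↥T ⧸ R₀ := (t : ↥T ⧸ R₀)
      have hqx : (q.out : ↥T) • x₀ = t • x₀ := by
        obtain ⟨r, hr⟩ := QuotientGroup.mk_out_eq_mul R₀ t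
        rw [show q.out = t * r from hr, mul_smul]
        exact congrArg (t • ·) r.2
      have hval : (z ^ (i : ℕ) * (q.out : ↥T) : G) • x₀ = x := by
        rw [mul_smul, show ((q.out : ↥T) : G) • x₀ = ((t : ↥T) : G) • x₀ from hqx, smul_smul,
          mul_inv_cancel_left, hvx]
      refine ⟨⟨i, q⟩, ?_, hval⟩
      simp only [Finset.mem_sigma, Finset.mem_filter, Finset.mem_univ, true_and]
      show uc i • ((t : ↥T) : ↥T ⧸ R₀) = t
      rw [MulAction.Quotient.smul_mk, eq_comm, QuotientGroup.eq]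
      show ((t⁻¹ * (uc i * t) : ↥T) : G) • x₀ = x₀
      have h6 : ((t⁻¹ * (uc i * t) : ↥T) : G) = v⁻¹ * u * v := by simp [t, uc]; group
      rw [h6, mul_smul, mul_smul, hvx, hux, ← hvx, inv_smul_smul]
    · rintro ⟨i, q⟩ hy
      simp only [Finset.mem_sigma, Finset.mem_filter, Finset.mem_univ, true_and] at hy
      have h2 : q.out⁻¹ * uc i ^ 1 * q.out ∈ R₀ := by
        rw [pow_one, mul_assoc]
        rw [← QuotientGroup.out_eq' q, MulAction.Quotient.smul_mk] at hy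
        exact QuotientGroup.eq.1 hy.symm
      obtain ⟨h3, h4⟩ := hterm i q.out 1 h2
      simp only [pow_one] at h3 h4
      rw [h3, ← hat_out μ _ u h4, ← hg₀x]
      rfl
  rw [hprod]
  -- the iterated commutator
  have hWnU : U ≤ Subgroup.normalizer (W : Set G) := (hUS.trans hSN).trans hWn
  have hDT : ∀ {v : G}, v ∈ T → D z v ∈ T := by
    intro v hv
    have := T.mul_mem (T.inv_mem hv) (hTz 1 hv)
    simpa [D, mul_assoc] using this
  have hDW : ∀ {v : G}, v ∈ T → D z v ∈ W := by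
    intro v hv
    refine W.mul_mem ?_ hzW
    have h1 := ((Subgroup.mem_normalizer_iff.1 (hWnU (U.inv_mem (hTU hv)))) z⁻¹).1 (W.inv_mem hzW)
    simpa using h1
  have hiter : ∀ n, (D z)^[n] u ∈ T := by
    intro n
    induction n with
    | zero => exact (hmemT uU).2 huT
    | succ n ih => rw [Function.iterate_succ_apply']; exact hDT ih
  obtain ⟨m, hm⟩ := Nat.exists_eq_add_one_of_ne_zero
    (Nat.sub_ne_zero_of_lt (Fact.out : p.Prime).one_lt)
  set c := (D z)^[p - 1] u with hc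
  have hcW : c ∈ W := by rw [hc, hm, Function.iterate_succ_apply']; exact hDW (hiter m)
  have hcT : c ∈ T := hiter _
  set W₀ : Subgroup ↥W := T.subgroupOf W with hW₀
  have hW₀co : IsCoatom W₀ := by
    refine ⟨fun h => hzT ((hmemT zU).1 ?_), fun X hX => ?_⟩
    · have h1 : (⟨z, hzW⟩ : ↥W) ∈ W₀ := by rw [h]; trivial
      exact Subgroup.mem_subgroupOf.1 h1
    · obtain ⟨⟨w, hw⟩, hwX, hwT⟩ := SetLike.exists_of_lt hX
      rw [eq_top_iff]
      rintro ⟨v, hv⟩ -
      obtain ⟨i, hi⟩ := hcos.2 ((⟨v, Subgroup.mem_sup_right hv⟩ : ↥U) : ↥U ⧸ T₀)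
      obtain ⟨j, hj⟩ := hcos.2 ((⟨w, Subgroup.mem_sup_right hw⟩ : ↥U) : ↥U ⧸ T₀)
      let wU : ↥U := ⟨w, Subgroup.mem_sup_right hw⟩
      let vU : ↥U := ⟨v, Subgroup.mem_sup_right hv⟩
      have hgen : ((vU : ↥U) : ↥U ⧸ T₀) ∈ Subgroup.zpowers ((wU : ↥U) : ↥U ⧸ T₀) := by
        have hcard : Nat.card (↥U ⧸ T₀) = p := by rw [← Subgroup.index_eq_card, hT₀i]
        haveI : Finite (↥U ⧸ T₀) := inferInstance
        rw [zpowers_eq_top_of_prime_card hcard (fun h => hwT (Subgroup.mem_subgroupOf.2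
          ((hmemT wU).2 ((QuotientGroup.eq_one_iff _).1 h))))]
        trivial
      obtain ⟨k, hk⟩ := Subgroup.mem_zpowers_iff.1 hgen
      rw [← QuotientGroup.mk_zpow, QuotientGroup.eq] at hk
      have h1 : ((⟨w, hw⟩ : ↥W) ^ k)⁻¹ * ⟨v, hv⟩ ∈ W₀ :=
        Subgroup.mem_subgroupOf.2 (by simpa [wU, vU] using (hmemT _).2 hk)
      have h2 := X.mul_mem (X.zpow_mem hwX k) (hX.le h1)
      simpa using h2
  have hcW₀ : c ∈ W₀.map W.subtype := ⟨⟨c, hcW⟩, hcT, rfl⟩
  have hfr : c ∈ ((frattini ↥W₀).map W₀.subtype).map W.subtype := by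
    by_contra hcn
    refine hno ⟨u, huS, z, hzW, W₀, hW₀co, ?_, ?_, hcW₀, hcn⟩
    · rintro ⟨w, hw, hwz⟩
      exact hzT ((hmemT zU).1 (show z ∈ T from hwz ▸ (Subgroup.mem_subgroupOf.1 hw)))
    · exact fun huW => ⟨⟨u, huW⟩, (hmemT uU).2 huT, rfl⟩
  obtain ⟨_, ⟨wc, hwc, rfl⟩, hwce⟩ := hfr
  obtain ⟨b, hb⟩ := exists_pow_of_mem_frattini ((S.2.to_le hWS).to_subgroup W₀) hwc
  set a : G := ((b : ↥W) : G) with ha
  have haT : a ∈ T := b.2
  have haS : a ∈ (S : Subgroup G) := hWS (b : ↥W).2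
  let ι : ↥W₀ →* ↥T := MonoidHom.mk' (fun w => ⟨((w : ↥W) : G), w.2⟩) fun _ _ => rfl
  let κ : ↥W₀ →* ↥N := MonoidHom.mk' (fun w => ⟨((w : ↥W) : G), hSN (hWS (w : ↥W).2)⟩) fun _ _ => rfl
  have hwcc : ((wc : ↥W) : G) = c := hwce
  have hμa : hat μ a ^ p = 1 := by
    have h1 := congrArg (Abelianization.lift (μ.comp κ)) hb
    rw [map_pow, Abelianization.lift_apply_of, Abelianization.lift_apply_of] at h1
    have h2 : μ (κ wc) = 1 := by
      set v : G := (D z)^[m] u with hv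
      have hvN : v ∈ N := hSN (hUS (hTU (hiter m)))
      have h4 : κ wc = ⁅(⟨v, hvN⟩ : ↥N)⁻¹, (⟨z, hSN (hWS hzW)⟩ : ↥N)⁻¹⁆ := by
        apply Subtype.ext
        show ((wc : ↥W) : G) = _
        rw [hwcc, hc, hm, Function.iterate_succ_apply']
        simp [D, v, commutatorElement_def, mul_assoc]
      rw [h4, map_commutatorElement]
      exact commutatorElement_eq_one_iff_mul_comm.2 (mul_comm _ _)
    rw [MonoidHom.comp_apply, MonoidHom.comp_apply, h2] at h1
    rw [hat_of_mem μ (hSN haS)]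
    exact h1.symm
  have hνc : ν ⟨c, hcT⟩ = 1 := by
    have h1 := congrArg (Abelianization.lift (ν.comp ι)) hb
    rw [map_pow, Abelianization.lift_apply_of, Abelianization.lift_apply_of] at h1
    rw [show (⟨c, hcT⟩ : ↥T) = ι wc from Subtype.ext hwcc.symm]
    refine h1.trans ?_
    refine transfer_pow_eq_one φ _ p fun q l _ hq => ?_
    have hm' : g₀⁻¹ * ((q⁻¹ * ι b ^ l * q : ↥T) : G) * g₀ ∈ N := (hstab _).1 hq
    rw [hatφ hq]
    have h5 : g₀⁻¹ * ((q⁻¹ * ι b ^ l * q : ↥T) : G) * g₀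
        = ((q : G) * g₀)⁻¹ * a ^ l * ((q : G) * g₀) := by
      simp only [Subgroup.coe_mul, InvMemClass.coe_inv, SubgroupClass.coe_pow]
      show g₀⁻¹ * ((q : G)⁻¹ * a ^ l * q) * g₀ = _
      group
    rw [h5] at hm' ⊢
    rw [hat_pow_stable hSN hkill haS hm', mul_comm, pow_mul, hμa, one_pow]
  -- forward differences
  let f : G → ℕ → Additive A := fun v j =>
    Additive.ofMul (if h : (z ^ j)⁻¹ * v * z ^ j ∈ T then ν ⟨_, h⟩ else 1)
  have hf : ∀ v ∈ T, f (D z v) = fwdDiff 1 (f v) := by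
    intro v hv
    funext j
    show Additive.ofMul _ = f v (j + 1) - f v j
    simp only [f]
    rw [dif_pos (hTz j (hDT hv)), dif_pos (hTz (j + 1) hv), dif_pos (hTz j hv), ← ofMul_div,
      div_eq_inv_mul, ← map_inv, ← map_mul]
    congr 2
    apply Subtype.ext
    simp [D, pow_succ]
    group
  have hfn : ∀ n, f ((D z)^[n] u) = (fwdDiff 1)^[n] (f u) := by
    intro n
    induction n with
    | zero => rfl
    | succ n ih =>
      rw [Function.iterate_succ_apply', Function.iterate_succ_apply', hf _ (hiter n), ih]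
  have hfu : ∀ i, f u i = Additive.ofMul (ν (uc i)) := fun i => by
    simp only [f]; rw [dif_pos (hTz i ((hmemT uU).2 huT))]
  have h := congrFun (hfn (p - 1)) 0
  rw [fwdDiff_iterate_eq_sum (f u) (fun k => by rw [hfu, ← ofMul_pow, hνp, ofMul_one])] at h
  have hf0 : f c 0 = 0 := by
    simp only [f]
    rw [dif_pos (by simpa using hcT)]
    simp only [pow_zero, inv_one, one_mul, mul_one, hνc]
    rfl
  rw [hf0, Finset.sum_range] at h
  simp only [hfu] at h
  rw [← ofMul_prod] at h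
  exact Additive.ofMul.injective (h.symm.trans ofMul_one.symm)

/-- A homomorphism whose `p`-th power kills `S ∩ G'` kills it. -/
theorem hat_eq_one (hWS : W ≤ (S : Subgroup G)) (hW : Cfsg.IsWeaklyClosed W (S : Subgroup G))
    (hN : N = Subgroup.normalizer (W : Set G)) (hno : ¬ Witness p (S : Subgroup G) W)
    (hkill : ∀ u ∈ (S : Subgroup G), u ∈ commutator G → hat μ u ^ p = 1) :
    ∀ u ∈ (S : Subgroup G), u ∈ commutator G → hat μ u = 1 := by
  classical
  have hSN : (S : Subgroup G) ≤ N := by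
    intro g hg
    rw [hN, Subgroup.mem_normalizer_iff_map_conj_eq]
    apply hW.2
    rintro _ ⟨w, hw, rfl⟩
    exact (S : Subgroup G).mul_mem ((S : Subgroup G).mul_mem hg (hWS hw)) ((S : Subgroup G).inv_mem hg)
  -- only the trivial coset is fixed by `W`
  have hfix : ∀ x : G ⧸ N, (∀ w ∈ W, w • x = x) → x = ((1 : G) : G ⧸ N) := by
    intro x hx
    set g := x.out
    have hg : ∀ w ∈ W, g⁻¹ * w * g ∈ N := fun w hw => by
      have h1 : ((w * g : G) : G ⧸ N) = g := by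
        have := hx w hw
        rwa [← QuotientGroup.out_eq' x, MulAction.Quotient.smul_mk] at this
      rw [eq_comm, QuotientGroup.eq] at h1
      rwa [← mul_assoc] at h1
    set W' := W.map (MulAut.conj g⁻¹).toMonoidHom with hW'
    have hW'N : W' ≤ N := by
      rintro _ ⟨w, hw, rfl⟩
      simpa using hg w hw
    have hS : IsSylowIn p (S : Subgroup G) N :=
      (show IsSylowIn p (S : Subgroup G) ⊤ from
        ⟨le_top, by rw [Subgroup.card_top, S.card_eq_multiplicity]⟩).of_le_le hSN le_top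
    obtain ⟨T, hT, hWT⟩ := IsSylowIn.exists_le ((S.2.to_le hWS).map (MulAut.conj g⁻¹).toMonoidHom) hW'N
    obtain ⟨n, hn, hnT⟩ := hT.exists_conj hS
    have h2 : W.map (MulAut.conj (n * g⁻¹)).toMonoidHom = W := by
      apply hW.2
      rintro _ ⟨w, hw, rfl⟩
      have h3 : n * (g⁻¹ * w * g) * n⁻¹ ∈ (S : Subgroup G) :=
        hnT ▸ Subgroup.mem_map_of_mem _ (hWT ⟨w, hw, by simp⟩)
      simpa [mul_assoc] using h3
    have h4 : n * g⁻¹ ∈ N := by rw [hN, Subgroup.mem_normalizer_iff_map_conj_eq]; exact h2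
    rw [← QuotientGroup.out_eq' x, QuotientGroup.eq]
    have := (N.mul_mem_cancel_left hn).1 h4
    simpa using this
  intro u
  induction h : orderOf u using Nat.strong_induction_on generalizing u with
  | _ k ih =>
  intro huS huc
  subst h
  have IH : ∀ y ∈ (S : Subgroup G), y ∈ commutator G → orderOf y < orderOf u → hat μ y = 1 :=
    fun y h1 h2 h3 => ih _ h3 y rfl h1 h2
  haveI : Fintype (G ⧸ N) := Fintype.ofFinite _
  have h0 : MonoidHom.transfer μ u = 1 := Abelianization.commutator_subset_ker _ huc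
  have h1 : MonoidHom.transfer μ u =
      ∏ x ∈ Finset.univ.filter (fun x : G ⧸ N => u • x = x), hat μ (x.out⁻¹ * u * x.out) := by
    refine transfer_eq_prod_fixed μ u fun g l hl hl1 hm => ?_
    refine hat_conj_pow_eq_one hSN huc huS IH ?_ hm
    obtain ⟨k, hk⟩ := exists_pow_prime_of_mem huS
    rw [hk] at hl
    obtain ⟨m, -, rfl⟩ := (Nat.dvd_prime_pow Fact.out).1 hl
    exact dvd_pow_self p fun h => hl1 (by rw [h, pow_zero])
  set x₁ : G ⧸ N := ((1 : G) : G ⧸ N) with hx₁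
  set U := Subgroup.zpowers u ⊔ W with hU
  have hUN : U ≤ N := sup_le (Subgroup.zpowers_le.2 (hSN huS)) (hWS.trans hSN)
  have hUx : ∀ v ∈ U, v • x₁ = x₁ := fun v hv => by
    rw [hx₁, MulAction.Quotient.smul_mk, eq_comm, QuotientGroup.eq]
    simpa using hUN hv
  have hmem1 : x₁ ∈ Finset.univ.filter (fun x : G ⧸ N => u • x = x) := by
    simp [hUx u (Subgroup.mem_sup_left (Subgroup.mem_zpowers u))]
  rw [← Finset.mul_prod_erase _ _ hmem1] at h1
  have h2 : hat μ (x₁.out⁻¹ * u * x₁.out) = hat μ u := by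
    rw [hx₁, hat_out μ 1 u (by simpa using hSN huS), inv_one, one_mul, mul_one]
  rw [h0, h2] at h1
  have h3 : ∏ x ∈ (Finset.univ.filter (fun x : G ⧸ N => u • x = x)).erase x₁,
      hat μ (x.out⁻¹ * u * x.out) = 1 := by
    rw [← Finset.prod_fiberwise_of_maps_to
      (t := ((Finset.univ.filter (fun x : G ⧸ N => u • x = x)).erase x₁).image
        (fun x => (⟦x⟧ : Quotient (MulAction.orbitRel ↥U (G ⧸ N)))))
      (fun x hx => Finset.mem_image_of_mem _ hx)]
    refine Finset.prod_eq_one fun c hc => ?_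
    obtain ⟨x₀, hx₀, rfl⟩ := Finset.mem_image.1 hc
    simp only [Finset.mem_erase, Finset.mem_filter, Finset.mem_univ, true_and] at hx₀
    have hmove : ∃ w ∈ W, w • x₀ ≠ x₀ := by
      by_contra hc'
      push Not at hc'
      exact hx₀.1 (hfix x₀ hc')
    rw [← orbit_prod_eq_one hWS hSN (hN ▸ le_refl _) hno hkill huS huc IH x₀ hx₀.2 hmove]
    refine Finset.prod_congr ?_ fun _ _ => rfl
    ext x
    simp only [Finset.mem_filter, Finset.mem_erase, Finset.mem_univ, true_and]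
    have horb : (⟦x⟧ : Quotient (MulAction.orbitRel ↥U (G ⧸ N))) = ⟦x₀⟧ ↔ ∃ v ∈ U, v • x₀ = x := by
      rw [Quotient.eq, MulAction.orbitRel_apply]
      exact ⟨fun ⟨v, hv⟩ => ⟨v, v.2, hv⟩, fun ⟨v, hv, hvx⟩ => ⟨⟨v, hv⟩, hvx⟩⟩
    rw [horb]
    constructor
    · rintro ⟨⟨-, h⟩, h'⟩; exact ⟨h, h'⟩
    · rintro ⟨h, v, hv, hvx⟩
      refine ⟨⟨fun he => hx₀.1 ?_, h⟩, v, hv, hvx⟩
      rw [← inv_smul_smul v x₀, hvx, he]
      exact hUx _ (U.inv_mem hv)
  rw [h3, mul_one] at h1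
  exact h1.symm

/-- The transfer theorem of Wielandt and Yoshida. -/
theorem exists_witness (hW : Cfsg.IsWeaklyClosed W (S : Subgroup G))
    (h : (S : Subgroup G) ⊓ commutator G ≠
      (S : Subgroup G) ⊓ ⁅Subgroup.normalizer (W : Set G), Subgroup.normalizer (W : Set G)⁆) :
    Witness p (S : Subgroup G) W := by
  by_contra hno
  refine h (le_antisymm ?_ (inf_le_inf_left _ (Subgroup.commutator_mono le_top le_top)))
  set N := Subgroup.normalizer (W : Set G) with hN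
  have hSN : (S : Subgroup G) ≤ N := by
    intro g hg
    rw [hN, Subgroup.mem_normalizer_iff_map_conj_eq]
    apply hW.2
    rintro _ ⟨w, hw, rfl⟩
    exact (S : Subgroup G).mul_mem ((S : Subgroup G).mul_mem hg (hW.1 hw)) ((S : Subgroup G).inv_mem hg)
  obtain ⟨K, hK⟩ : ∃ K, Nat.card ↥(S : Subgroup G) = p ^ K := S.2.exists_card_eq
  have key : ∀ j, j ≤ K → ∀ u ∈ (S : Subgroup G), u ∈ commutator G →
      hat ((powMonoidHom (p ^ (K - j))).comp (Abelianization.of (G := ↥N))) u = 1 := by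
    intro j
    induction j with
    | zero =>
      intro _ u huS _
      rw [Nat.sub_zero, hat_of_mem _ (hSN huS), MonoidHom.comp_apply, powMonoidHom_apply, ← map_pow,
        show (⟨u, hSN huS⟩ : ↥N) ^ p ^ K = 1 from Subtype.ext (by
          show u ^ p ^ K = 1
          exact orderOf_dvd_iff_pow_eq_one.1 (hK ▸ Subgroup.orderOf_dvd_natCard _ huS)), map_one]
    | succ j ih =>
      intro hj
      refine hat_eq_one (μ := (powMonoidHom (p ^ (K - (j + 1)))).comp (Abelianization.of (G := ↥N)))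
        hW.1 hW hN hno fun u huS huc => ?_
      have h1 := ih (by omega) u huS huc
      rw [hat_of_mem _ (hSN huS), MonoidHom.comp_apply, powMonoidHom_apply] at h1 ⊢
      rw [← pow_mul, ← pow_succ, show K - (j + 1) + 1 = K - j by omega]
      exact h1
  rintro u ⟨huS, huc⟩
  refine ⟨huS, ?_⟩
  have h1 := key K le_rfl u huS huc
  rw [Nat.sub_self, pow_zero, hat_of_mem _ (hSN huS), MonoidHom.comp_apply, powMonoidHom_apply,
    pow_one] at h1
  have h2 : (⟨u, hSN huS⟩ : ↥N) ∈ (Abelianization.of (G := ↥N)).ker := h1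
  rw [Abelianization.ker_of] at h2
  have h3 := Subgroup.mem_map_of_mem N.subtype h2
  rwa [commutator_def, Subgroup.map_commutator, ← MonoidHom.range_eq_map, Subgroup.range_subtype] at h3

end Cfsg.Agent.Lib.LAEven54.Yoshida
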