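import Cfsg.Agent.Lib.Cores.Subnormal
import Cfsg.Agent.Lib.Components.GenFitting
import Cfsg.Agent.Lib.CharP.Basic
import Cfsg.Agent.Lib.CosetGraph.SylowIn
import Cfsg.Agent.Lib.LA5.Basic
import Cfsg.Agent.Lib.LAEven54.Subnormal

/-!
Sylow subgroups meet subnormal subgroups in Sylow subgroups, and meet a join of two subnormal subgroups in
the join of the intersections.
-/

set_option autoImplicit false

namespace Cfsg.Agent.Lib.LAEven54.SylowJoin

open Cfsg Cfsg.Agent.Lib.CosetGraph.SylowIn

universe u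

variable {G : Type u} [Group G] [Finite G] {p : ℕ} [Fact p.Prime]

theorem inf_of_normal {K L T : Subgroup G} (hT : IsSylowIn p T K) (hLK : L ≤ K)
    (hn : K ≤ Subgroup.normalizer (L : Set G)) : IsSylowIn p (T ⊓ L) L := by
  obtain ⟨U, hU, hle⟩ := IsSylowIn.exists_le (p := p) (H := L) (P := T ⊓ L)
    (hT.isPGroup.to_le inf_le_left) inf_le_right
  obtain ⟨T', hT', hUT'⟩ := IsSylowIn.exists_le (p := p) (H := K) hU.isPGroup (hU.le.trans hLK)
  obtain ⟨g, hg, hgT⟩ := hT'.exists_conj hT
  have h1 : U.map (MulAut.conj g).toMonoidHom ≤ T ⊓ L := by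
    refine le_inf (hgT ▸ Subgroup.map_mono hUT') ?_
    calc U.map (MulAut.conj g).toMonoidHom ≤ L.map (MulAut.conj g).toMonoidHom :=
          Subgroup.map_mono hU.le
      _ = L := conj_map_eq_self (hn hg)
  have h2 := Subgroup.card_le_of_le h1
  rw [Subgroup.card_map_of_injective (f := (MulAut.conj g).toMonoidHom) (MulAut.conj g).injective] at h2
  exact (Subgroup.eq_of_le_of_card_ge hle h2) ▸ hU

theorem isSylowIn_top (T : Sylow p G) : IsSylowIn p (T : Subgroup G) ⊤ :=
  ⟨le_top, by rw [Subgroup.card_top]; exact T.card_eq_multiplicity⟩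

/-- A Sylow subgroup meets a subnormal subgroup in a Sylow subgroup of it. -/
theorem isSylowIn_inf (T : Sylow p G) {X : Subgroup G} (hX : X.IsSubnormal) :
    IsSylowIn p ((T : Subgroup G) ⊓ X) X := by
  induction hX with
  | top => rw [inf_top_eq]; exact isSylowIn_top T
  | step H K hle _ hN ih =>
    have := inf_of_normal ih hle ((Subgroup.normal_subgroupOf_iff_le_normalizer hle).1 hN)
    rwa [inf_assoc, inf_eq_right.2 hle] at this

/-- The case where one subgroup normalizes the other. -/
theorem inf_sup_le_of_le_normalizer (T : Sylow p G) {X Y : Subgroup G} (hX : X.IsSubnormal)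
    (hY : Y.IsSubnormal) (hn : Y ≤ Subgroup.normalizer (X : Set G)) :
    (X ⊔ Y) ⊓ (T : Subgroup G) ≤ (X ⊓ (T : Subgroup G)) ⊔ (Y ⊓ (T : Subgroup G)) := by
  set J := (X ⊓ (T : Subgroup G)) ⊔ (Y ⊓ (T : Subgroup G)) with hJ
  have hJle : J ≤ (X ⊔ Y) ⊓ (T : Subgroup G) :=
    sup_le (inf_le_inf_right _ le_sup_left) (inf_le_inf_right _ le_sup_right)
  suffices h : Nat.card ↥((X ⊔ Y) ⊓ (T : Subgroup G)) ≤ Nat.card J from
    (Subgroup.eq_of_le_of_card_ge hJle h).ge
  have hprod : Nat.card ↥(X ⊔ Y) * Nat.card ↥(X ⊓ Y) = Nat.card X * Nat.card Y := by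
    rw [← Cfsg.Agent.Lib.LA5.Basic.card_mul_card_inf X Y,
      ← Subgroup.coe_mul_of_right_le_normalizer_left X Y hn]
    rfl
  have hs := isSylowIn_inf T (Cfsg.Agent.Lib.Cores.Subnormal.sup_of_le_normalizer hX hY hn)
  have hi := isSylowIn_inf T (hX.inf hY)
  have hx := isSylowIn_inf T hX
  have hy := isSylowIn_inf T hY
  have hν : (Nat.card ↥(X ⊔ Y)).factorization p + (Nat.card ↥(X ⊓ Y)).factorization p
      = (Nat.card X).factorization p + (Nat.card Y).factorization p := by
    have := congrArg Nat.factorization hprod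
    rw [Nat.factorization_mul Nat.card_pos.ne' Nat.card_pos.ne',
      Nat.factorization_mul Nat.card_pos.ne' Nat.card_pos.ne'] at this
    exact congrArg (fun f : ℕ →₀ ℕ => f p) this
  have h2 : Nat.card ↥((X ⊔ Y) ⊓ (T : Subgroup G)) *
      Nat.card ↥((X ⊓ (T : Subgroup G)) ⊓ (Y ⊓ (T : Subgroup G))) =
      Nat.card ↥(X ⊓ (T : Subgroup G)) * Nat.card ↥(Y ⊓ (T : Subgroup G)) := by
    have e : (X ⊓ (T : Subgroup G)) ⊓ (Y ⊓ (T : Subgroup G)) = (T : Subgroup G) ⊓ (X ⊓ Y) := by
      rw [← inf_inf_distrib_right, inf_comm]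
    rw [e, inf_comm (X ⊔ Y), inf_comm X (T : Subgroup G), inf_comm Y (T : Subgroup G), hs.card_eq,
      hi.card_eq, hx.card_eq, hy.card_eq, ← pow_add, hν, pow_add]
  have h3 := Cfsg.Agent.Lib.LA5.Basic.card_mul_le_card_sup_mul_card_inf
    (X ⊓ (T : Subgroup G)) (Y ⊓ (T : Subgroup G))
  rw [← h2] at h3
  exact Nat.le_of_mul_le_mul_right h3 Nat.card_pos

/-- Reduction modulo a normal subgroup whose Sylow part is already covered. -/
theorem le_of_quotient {T : Sylow p G} {A B K : Subgroup G} [K.Normal] (hA : A.IsSubnormal)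
    (hB : B.IsSubnormal) (hK : K ⊓ (T : Subgroup G) ≤ (A ⊓ (T : Subgroup G)) ⊔ (B ⊓ (T : Subgroup G)))
    (ih : ((T.mapSurjective (QuotientGroup.mk'_surjective K)) : Subgroup (G ⧸ K)) ≤
      (A.map (QuotientGroup.mk' K) ⊓ (T.mapSurjective (QuotientGroup.mk'_surjective K) : Subgroup (G ⧸ K))) ⊔
        (B.map (QuotientGroup.mk' K) ⊓ (T.mapSurjective (QuotientGroup.mk'_surjective K) : Subgroup (G ⧸ K)))) :
    (T : Subgroup G) ≤ (A ⊓ (T : Subgroup G)) ⊔ (B ⊓ (T : Subgroup G)) := by
  set π := QuotientGroup.mk' K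
  have hmap : ∀ X : Subgroup G, X.IsSubnormal → X.map π ⊓ (T : Subgroup G).map π ≤
      (X ⊓ (T : Subgroup G)).map π := by
    rintro X hX q ⟨⟨a, ha, hq⟩, t, ht, rfl⟩
    have hmem : t ∈ (K ⊔ X) ⊓ (T : Subgroup G) := by
      refine ⟨?_, ht⟩
      have : t * a⁻¹ ∈ K := (QuotientGroup.eq_one_iff _).1 (show π (t * a⁻¹) = 1 by
        rw [map_mul, map_inv, hq, mul_inv_cancel])
      rw [show t = t * a⁻¹ * a by group]
      exact mul_mem (Subgroup.mem_sup_left this) (Subgroup.mem_sup_right ha)
    have h1 := inf_sup_le_of_le_normalizer T (Subgroup.Normal.isSubnormal inferInstance) hX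
      (by rw [Subgroup.normalizer_eq_top]; exact le_top) hmem
    have h2 : π t ∈ ((K ⊓ (T : Subgroup G)) ⊔ (X ⊓ (T : Subgroup G))).map π :=
      Subgroup.mem_map_of_mem π h1
    rw [Subgroup.map_sup, show (K ⊓ (T : Subgroup G)).map π = ⊥ from
      (Subgroup.map_eq_bot_iff _).2 (inf_le_left.trans (QuotientGroup.ker_mk' K).ge), bot_sup_eq] at h2
    exact h2
  simp only [Sylow.coe_mapSurjective] at ih
  set J := (A ⊓ (T : Subgroup G)) ⊔ (B ⊓ (T : Subgroup G)) with hJ
  have h : (T : Subgroup G).map π ≤ J.map π := by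
    rw [hJ, Subgroup.map_sup]
    exact ih.trans (sup_le_sup (hmap A hA) (hmap B hB))
  intro t ht
  obtain ⟨j, hj, hjt⟩ := h (Subgroup.mem_map_of_mem π ht)
  have hJT : J ≤ (T : Subgroup G) := sup_le inf_le_right inf_le_right
  have : j⁻¹ * t ∈ J := hK ⟨(QuotientGroup.eq_one_iff _).1 (show π (j⁻¹ * t) = 1 by
    rw [map_mul, map_inv, hjt, inv_mul_cancel]), (T : Subgroup G).mul_mem ((T : Subgroup G).inv_mem (hJT hj)) ht⟩
  rw [show t = j * (j⁻¹ * t) by group]
  exact mul_mem hj this

theorem aux (n : ℕ) : ∀ (G : Type u) [Group G] [Finite G] (T : Sylow p G) (A B : Subgroup G),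
    Nat.card G = n → A.IsSubnormal → B.IsSubnormal → A ⊔ B = ⊤ →
      (T : Subgroup G) ≤ (A ⊓ (T : Subgroup G)) ⊔ (B ⊓ (T : Subgroup G)) := by
  induction n using Nat.strong_induction_on with
  | _ n ih =>
  intro G _ _ T A B hn hA hB htop
  set J := (A ⊓ (T : Subgroup G)) ⊔ (B ⊓ (T : Subgroup G)) with hJ
  -- a nontrivial normal subgroup with covered Sylow part finishes the proof
  have quot : ∀ K : Subgroup G, K.Normal → K ≠ ⊥ → K ⊓ (T : Subgroup G) ≤ J → (T : Subgroup G) ≤ J := by
    intro K hKn hK1 hK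
    refine le_of_quotient hA hB hK (ih _ ?_ (G ⧸ K) _ _ _ rfl ?_ ?_ ?_)
    · rw [← hn, Subgroup.card_eq_card_quotient_mul_card_subgroup K]
      exact lt_mul_of_one_lt_right Nat.card_pos ((Subgroup.one_lt_card_iff_ne_bot K).2 hK1)
    · exact hA.map (QuotientGroup.mk'_surjective K)
    · exact hB.map (QuotientGroup.mk'_surjective K)
    · rw [← Subgroup.map_sup, htop, Subgroup.map_top_of_surjective _ (QuotientGroup.mk'_surjective K)]
  -- the layer
  by_cases hE : layer G = ⊥
  swap
  · refine quot (layer G) ?_ hE ?_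
    · refine ⟨fun x hx g => ?_⟩
      have h := Cfsg.Agent.Lib.Components.Layer.map_layer (MulAut.conj g)
      rw [← h]
      exact Subgroup.mem_map_of_mem _ hx
    classical
    haveI : Fintype {K : Subgroup G // IsComponent K} := Fintype.ofFinite _
    have key : ∀ s : Finset {K : Subgroup G // IsComponent K},
        (s.sup Subtype.val).IsSubnormal ∧ s.sup Subtype.val ⊓ (T : Subgroup G) ≤ J ∧
          ∀ L, IsComponent L → L ≤ Subgroup.normalizer ((s.sup Subtype.val : Subgroup G) : Set G) := by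
      intro s
      induction s using Finset.induction_on with
      | empty =>
        refine ⟨by rw [Finset.sup_empty]; exact Subgroup.IsSubnormal.bot,
          by rw [Finset.sup_empty, bot_inf_eq]; exact bot_le, fun L _ => ?_⟩
        rw [Finset.sup_empty, Subgroup.normalizer_eq_top]
        exact le_top
      | insert K s _ hs =>
        obtain ⟨hsn, hsT, hsN⟩ := hs
        rw [Finset.sup_insert]
        have hKn := hsN K.1 K.2
        refine ⟨by rw [sup_comm]; exact Cfsg.Agent.Lib.Cores.Subnormal.sup_of_le_normalizer hsn K.2.1 hKn, ?_, ?_⟩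
        · rw [sup_comm]
          refine (inf_sup_le_of_le_normalizer T hsn K.2.1 hKn).trans (sup_le hsT ?_)
          -- a component lies in one of the two subgroups
          have hcase : (K : Subgroup G) ≤ A ∨ (K : Subgroup G) ≤ B := by
            rcases Cfsg.Agent.Lib.Components.Component.le_or_commutator_eq_bot K.2 hA with h | h
            · exact Or.inl h
            rcases Cfsg.Agent.Lib.Components.Component.le_or_commutator_eq_bot K.2 hB with h' | h'
            · exact Or.inr h'
            exfalso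
            apply Cfsg.Agent.Lib.Components.Component.not_le_centralizer_self K.2
            have : (⊤ : Subgroup G) ≤ Subgroup.centralizer ((K : Subgroup G) : Set G) := htop ▸
              sup_le (Subgroup.commutator_eq_bot_iff_le_centralizer.1 h)
                (Subgroup.commutator_eq_bot_iff_le_centralizer.1 h')
            exact le_trans le_top this
          rcases hcase with h | h
          · exact le_sup_of_le_left (inf_le_inf_right _ h)
          · exact le_sup_of_le_right (inf_le_inf_right _ h)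
        · intro L hL g hg
          rw [Subgroup.mem_normalizer_iff_map_conj_eq, Subgroup.map_sup]
          refine congrArg₂ (· ⊔ ·) ?_ (Subgroup.mem_normalizer_iff_map_conj_eq.1 (hsN L hL hg))
          refine Subgroup.mem_normalizer_iff_map_conj_eq.1 ?_
          exact (Cfsg.Agent.Lib.Components.Layer.layer_le_normalizer K.2)
            (Cfsg.Agent.Lib.Components.Layer.component_le_layer hL hg)
    have hlayer : layer G ≤ Finset.univ.sup (Subtype.val : {K : Subgroup G // IsComponent K} → Subgroup G) :=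
      sSup_le fun K hK => Finset.le_sup (f := (Subtype.val : {K : Subgroup G // IsComponent K} → Subgroup G))
        (Finset.mem_univ (⟨K, hK⟩ : {K : Subgroup G // IsComponent K}))
    exact (inf_le_inf_right _ hlayer).trans (key _).2.1
  -- cores at other primes
  by_cases hq : ∃ q : Nat.Primes, (q : ℕ) ≠ p ∧ pCore (q : ℕ) G ≠ ⊥
  · obtain ⟨q, hqp, hq1⟩ := hq
    haveI : Fact (q : ℕ).Prime := ⟨q.2⟩
    refine quot _ inferInstance hq1 (le_of_eq_of_le ?_ bot_le)
    exact (IsPGroup.disjoint_of_ne (q : ℕ) p hqp _ _ (Cores.pCore_isPGroup (G := G) (q : ℕ)) T.2).eq_bot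
  push_neg at hq
  set Q := pCore p G with hQ
  have hF : fittingSubgroup G ≤ Q := by
    rw [Cores.fittingSubgroup_eq_iSup_pCore]
    refine iSup_le fun q => ?_
    by_cases hqp : (q : ℕ) = p
    · rw [hqp]
    · rw [hq q hqp]; exact bot_le
  have hC : Subgroup.centralizer (Q : Set G) ≤ Q := by
    have h1 := Cfsg.Agent.Lib.Components.GenFitting.centralizer_le (G := G)
    have hF' : generalizedFittingSubgroup G = fittingSubgroup G := by
      rw [generalizedFittingSubgroup, hE, bot_sup_eq]
    rw [hF'] at h1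
    exact (Subgroup.centralizer_le hF).trans (h1.trans hF)
  have hQT : Q ≤ (T : Subgroup G) := Cores.pCore_le_sylow T
  have hQp : IsPGroup p Q := Cores.pCore_isPGroup p
  -- `O^p` of each factor
  set A₀ := (pResidual p A).map A.subtype with hA₀
  set B₀ := (pResidual p B).map B.subtype with hB₀
  have hsplit : ∀ X : Subgroup G, X.IsSubnormal →
      X ≤ (pResidual p X).map X.subtype ⊔ (X ⊓ (T : Subgroup G)) := by
    intro X hX
    obtain ⟨P, hP⟩ := (isSylowIn_inf T hX).exists_sylow
    intro x hx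
    have h := Subgroup.mem_map_of_mem X.subtype
      (show (⟨x, hx⟩ : X) ∈ (P : Subgroup X) ⊔ pResidual p X by
        rw [CharP.sylow_sup_pResidual P]; trivial)
    rw [Subgroup.map_sup, ← hP, sup_comm, inf_comm] at h
    exact h
  have hnorm : ∀ X : Subgroup G, X.IsSubnormal →
      Q ≤ Subgroup.normalizer (((pResidual p X).map X.subtype : Subgroup G) : Set G) := by
    intro X hX
    haveI : Q.Normal := inferInstance
    have h := CharP.le_normalizer_map_pResidual (p := p) (X ⊔ Q)
    rw [Subnormal.map_pResidual_sup hX hQp] at h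
    exact le_sup_right.trans h
  by_cases hD : Q ⊓ J = ⊥
  · -- then both factors are `p`-groups
    have hbot : ∀ X : Subgroup G, X.IsSubnormal → X ⊓ (T : Subgroup G) ≤ J →
        (pResidual p X).map X.subtype = ⊥ := by
      intro X hX hXJ
      set X₀ := (pResidual p X).map X.subtype with hX₀
      have h1 : ⁅Q, X₀⁆ ≤ Q ⊓ X₀ := le_inf (Subgroup.commutator_le_left _ _)
        (Subgroup.le_normalizer_iff_commutator_le_right.1 (hnorm X hX))
      have h2 : Q ⊓ X₀ ≤ Q ⊓ J := le_inf inf_le_left fun x hx =>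
        hXJ ⟨Subgroup.map_subtype_le _ hx.2, hQT hx.1⟩
      have h3 : X₀ ≤ Q := (Subgroup.commutator_eq_bot_iff_le_centralizer.1
        (by rw [Subgroup.commutator_comm]; exact le_bot_iff.1 ((h1.trans h2).trans hD.le))).trans hC
      exact le_bot_iff.1 ((le_inf h3 le_rfl).trans (h2.trans hD.le))
    have hAT := hsplit A hA
    have hBT := hsplit B hB
    rw [hbot A hA le_sup_left, bot_sup_eq] at hAT
    rw [hbot B hB le_sup_right, bot_sup_eq] at hBT
    calc (T : Subgroup G) ≤ A ⊔ B := by rw [htop]; exact le_top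
      _ ≤ J := sup_le_sup hAT hBT
  · -- `Q ⊓ J` is normal
    refine quot (Q ⊓ J) ?_ hD (inf_le_left.trans inf_le_right)
    rw [← Subgroup.normalizer_eq_top_iff, eq_top_iff, ← htop]
    have hJn : J ≤ Subgroup.normalizer ((Q ⊓ J : Subgroup G) : Set G) := by
      refine le_trans ?_ Subgroup.inf_normalizer_le_normalizer_inf
      exact le_inf (by rw [Subgroup.normalizer_eq_top]; exact le_top) Subgroup.le_normalizer
    have hres : ∀ X : Subgroup G, X.IsSubnormal → X ⊓ (T : Subgroup G) ≤ J →
        (pResidual p X).map X.subtype ≤ Subgroup.normalizer ((Q ⊓ J : Subgroup G) : Set G) := by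
      intro X hX hXJ
      set X₀ := (pResidual p X).map X.subtype with hX₀
      refine Subgroup.le_normalizer_iff_commutator_le_left.2 (le_inf ?_ ?_)
      · exact (Subgroup.commutator_mono inf_le_left le_rfl).trans (Subgroup.commutator_le_left _ _)
      · refine le_trans ?_ hXJ
        refine (Subgroup.commutator_mono (inf_le_left : Q ⊓ J ≤ Q) le_rfl).trans (le_inf ?_ ?_)
        · exact (Subgroup.le_normalizer_iff_commutator_le_right.1 (hnorm X hX)).trans
            (Subgroup.map_subtype_le _)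
        · exact (Subgroup.commutator_le_left Q X₀).trans hQT
    exact sup_le ((hsplit A hA).trans (sup_le (hres A hA le_sup_left) (le_sup_left.trans hJn)))
      ((hsplit B hB).trans (sup_le (hres B hB le_sup_right) (le_sup_right.trans hJn)))

/-- A Sylow subgroup meets a join of two subnormal subgroups in the join of the intersections. -/
theorem inf_sup_eq (T : Sylow p G) {A B : Subgroup G} (hA : A.IsSubnormal) (hB : B.IsSubnormal) :
    (A ⊔ B) ⊓ (T : Subgroup G) = (A ⊓ (T : Subgroup G)) ⊔ (B ⊓ (T : Subgroup G)) := by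
  refine le_antisymm ?_ (sup_le (inf_le_inf_right _ le_sup_left) (inf_le_inf_right _ le_sup_right))
  set M := A ⊔ B with hM
  have hMs := Cfsg.Agent.Lib.Cores.Subnormal.sup hA hB
  obtain ⟨P, hP⟩ := (isSylowIn_inf T hMs).exists_sylow
  have h := aux (p := p) _ M P (A.subgroupOf M) (B.subgroupOf M) rfl hA.subgroupOf hB.subgroupOf
    (by rw [← Subgroup.subgroupOf_sup (le_sup_left : A ≤ M) (le_sup_right : B ≤ M), Subgroup.subgroupOf_self])
  have h2 := Subgroup.map_mono (f := M.subtype) h
  rw [Subgroup.map_sup, Subgroup.map_inf_eq _ _ _ M.subtype_injective,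
    Subgroup.map_inf_eq _ _ _ M.subtype_injective, ← hP,
    Subgroup.map_subgroupOf_eq_of_le (le_sup_left : A ≤ M),
    Subgroup.map_subgroupOf_eq_of_le (le_sup_right : B ≤ M)] at h2
  rw [inf_comm]
  exact h2.trans (sup_le_sup (inf_le_inf_left _ inf_le_left) (inf_le_inf_left _ inf_le_left))

end Cfsg.Agent.Lib.LAEven54.SylowJoin
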