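import Cfsg.Prelude.Def_LocalEven
import Cfsg.Prelude.Def_PLocal
import Cfsg.Agent.Lib.Linear.Unipotent

/-!
The group `F² ⋊ SL₂(F)` inside `SL₃(F)`.
-/

set_option autoImplicit false
set_option linter.unusedSectionVars false

namespace Cfsg.Agent.Lib.LAEven54.QdOver

open Matrix Cfsg.Agent.Lib.Linear

variable {F : Type*} [Field F]

/-- The matrix `(A v; 0 1)`. -/
def affMat (A : Matrix (Fin 2) (Fin 2) F) (v : Fin 2 → F) : Matrix (Fin 3) (Fin 3) F :=
  !![A 0 0, A 0 1, v 0; A 1 0, A 1 1, v 1; 0, 0, 1]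

theorem det_affMat (A : Matrix (Fin 2) (Fin 2) F) (v : Fin 2 → F) : (affMat A v).det = A.det := by
  simp [affMat, Matrix.det_fin_three, Matrix.det_fin_two]

theorem affMat_mul (A B : Matrix (Fin 2) (Fin 2) F) (v w : Fin 2 → F) :
    affMat A v * affMat B w = affMat (A * B) (A *ᵥ w + v) := by
  ext i j
  fin_cases i <;> fin_cases j <;>
    simp [affMat, Matrix.mul_apply, Matrix.mulVec, dotProduct, Fin.sum_univ_three, Fin.sum_univ_two]

theorem row_of_mem {M : Matrix.SpecialLinearGroup (Fin 3) F} (h : M ∈ Cfsg.qdOver F) :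
    M.1 2 0 = 0 ∧ M.1 2 1 = 0 ∧ M.1 2 2 = 1 := by
  induction h using Subgroup.closure_induction with
  | mem x hx => exact hx
  | one => simp
  | mul x y _ _ hx hy =>
    simp [Matrix.SpecialLinearGroup.coe_mul, Matrix.mul_apply, Fin.sum_univ_three, hx, hy]
  | inv x _ hx =>
    have h1 : (x.1 * (x⁻¹).1) = 1 := by
      rw [← Matrix.SpecialLinearGroup.coe_mul, mul_inv_cancel, Matrix.SpecialLinearGroup.coe_one]
    have hr : ∀ j, (x⁻¹).1 2 j = (1 : Matrix (Fin 3) (Fin 3) F) 2 j := fun j => by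
      have := congrFun (congrFun h1 2) j
      simpa [Matrix.mul_apply, Fin.sum_univ_three, hx] using this
    exact ⟨by rw [hr]; simp, by rw [hr]; simp, by rw [hr]; simp⟩

theorem mem_qdOver_iff {M : Matrix.SpecialLinearGroup (Fin 3) F} :
    M ∈ Cfsg.qdOver F ↔ M.1 2 0 = 0 ∧ M.1 2 1 = 0 ∧ M.1 2 2 = 1 :=
  ⟨row_of_mem, fun h => Subgroup.subset_closure h⟩

theorem qd_eq (p : ℕ) [Fact p.Prime] : Cfsg.qd p = Cfsg.qdOver (ZMod p) := rfl

/-- The affine map `x ↦ A x + v`. -/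
def mk (A : SpecialLinearGroup (Fin 2) F) (v : Fin 2 → F) : ↥(Cfsg.qdOver F) :=
  ⟨⟨affMat A.1 v, (det_affMat _ _).trans A.2⟩,
    Subgroup.subset_closure ⟨by simp [affMat], by simp [affMat], by simp [affMat]⟩⟩

theorem coe_mk (A : SpecialLinearGroup (Fin 2) F) (v : Fin 2 → F) :
    (mk A v).1.1 = affMat A.1 v := rfl

theorem mk_mul (A B : SpecialLinearGroup (Fin 2) F) (v w : Fin 2 → F) :
    mk A v * mk B w = mk (A * B) (A.1 *ᵥ w + v) :=
  Subtype.ext (Subtype.ext (affMat_mul _ _ _ _))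

theorem exists_mk (M : ↥(Cfsg.qdOver F)) : ∃ A v, mk A v = M := by
  obtain ⟨h0, h1, h2⟩ := row_of_mem M.2
  have hd : Matrix.det !![M.1.1 0 0, M.1.1 0 1; M.1.1 1 0, M.1.1 1 1] = 1 := by
    have h3 := M.1.2
    rw [Matrix.det_fin_three, h0, h1, h2] at h3
    simpa [Matrix.det_fin_two] using h3
  refine ⟨⟨_, hd⟩, ![M.1.1 0 2, M.1.1 1 2], Subtype.ext (Subtype.ext ?_)⟩
  show affMat _ _ = M.1.1
  ext i j
  fin_cases i <;> fin_cases j <;> simp [affMat, h0, h1, h2]

theorem mk_inj {A B : SpecialLinearGroup (Fin 2) F} {v w : Fin 2 → F} (h : mk A v = mk B w) :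
    A = B ∧ v = w := by
  have h' : affMat A.1 v = affMat B.1 w := congrArg (fun M : ↥(Cfsg.qdOver F) => M.1.1) h
  refine ⟨Subtype.ext ?_, ?_⟩
  · ext i j
    fin_cases i <;> fin_cases j
    · simpa [affMat] using congrFun (congrFun h' 0) 0
    · simpa [affMat] using congrFun (congrFun h' 0) 1
    · simpa [affMat] using congrFun (congrFun h' 1) 0
    · simpa [affMat] using congrFun (congrFun h' 1) 1
  · ext i
    fin_cases i
    · simpa [affMat] using congrFun (congrFun h' 0) 2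
    · simpa [affMat] using congrFun (congrFun h' 1) 2

theorem one_eq : (1 : ↥(Cfsg.qdOver F)) = mk 1 0 := by
  refine Subtype.ext (Subtype.ext ?_)
  show (1 : Matrix (Fin 3) (Fin 3) F) = affMat _ _
  ext i j
  fin_cases i <;> fin_cases j <;> simp [affMat]

/-- The linear part, as a function. -/
noncomputable def blkFun (M : ↥(Cfsg.qdOver F)) : SpecialLinearGroup (Fin 2) F :=
  (exists_mk M).choose

theorem blkFun_mk (A : SpecialLinearGroup (Fin 2) F) (v : Fin 2 → F) : blkFun (mk A v) = A :=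
  (mk_inj (exists_mk (mk A v)).choose_spec.choose_spec).1

/-- The linear part. -/
noncomputable def blk : ↥(Cfsg.qdOver F) →* SpecialLinearGroup (Fin 2) F :=
  MonoidHom.mk' blkFun fun M N => by
    obtain ⟨A, v, rfl⟩ := exists_mk M
    obtain ⟨B, w, rfl⟩ := exists_mk N
    rw [mk_mul, blkFun_mk, blkFun_mk, blkFun_mk]

theorem blk_mk (A : SpecialLinearGroup (Fin 2) F) (v : Fin 2 → F) : blk (mk A v) = A :=
  blkFun_mk A v

theorem blk_surjective : Function.Surjective (blk (F := F)) := fun A => ⟨mk A 0, blk_mk A 0⟩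

/-- The translation subgroup. -/
noncomputable def trans (F : Type*) [Field F] : Subgroup ↥(Cfsg.qdOver F) := (blk (F := F)).ker

theorem trans_normal : (trans F).Normal := MonoidHom.normal_ker _

theorem mem_trans_iff {M : ↥(Cfsg.qdOver F)} : M ∈ trans F ↔ ∃ v, M = mk 1 v := by
  constructor
  · intro h
    obtain ⟨A, v, rfl⟩ := exists_mk M
    rw [trans, MonoidHom.mem_ker, blk_mk] at h
    exact ⟨v, by rw [h]⟩
  · rintro ⟨v, rfl⟩
    exact blk_mk 1 v

theorem mk_one_mul (v w : Fin 2 → F) : mk 1 v * mk 1 w = mk 1 (v + w) := by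
  rw [mk_mul, one_mul, Matrix.SpecialLinearGroup.coe_one, Matrix.one_mulVec, add_comm]

theorem conj_mk_one (A : SpecialLinearGroup (Fin 2) F) (u v : Fin 2 → F) :
    mk A u * mk 1 v * (mk A u)⁻¹ = mk 1 (A.1 *ᵥ v) := by
  rw [mul_inv_eq_iff_eq_mul, mk_mul, mk_mul, mul_one, one_mul, Matrix.SpecialLinearGroup.coe_one,
    Matrix.one_mulVec, add_comm]

theorem mk_one_pow (v : Fin 2 → F) (n : ℕ) : mk 1 v ^ n = mk 1 ((n : F) • v) := by
  induction n with
  | zero => simp [one_eq]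
  | succ n ih => rw [pow_succ, ih, mk_one_mul, Nat.cast_succ, add_smul, one_smul]

theorem isPGroup_trans (p : ℕ) [CharP F p] : IsPGroup p ↥(trans F) := by
  rintro ⟨M, hM⟩
  obtain ⟨v, rfl⟩ := mem_trans_iff.1 hM
  refine ⟨1, Subtype.ext ?_⟩
  rw [Subgroup.coe_pow, pow_one, mk_one_pow, CharP.cast_eq_zero, zero_smul, ← one_eq,
    Subgroup.coe_one]

theorem trans_comm {M N : ↥(Cfsg.qdOver F)} (hM : M ∈ trans F) (hN : N ∈ trans F) :
    M * N = N * M := by
  obtain ⟨v, rfl⟩ := mem_trans_iff.1 hM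
  obtain ⟨w, rfl⟩ := mem_trans_iff.1 hN
  rw [mk_one_mul, mk_one_mul, add_comm]

/-! ### Facts on `SL₂` -/

/-- `(1 x; 0 1)`. -/
def uM (x : F) : SpecialLinearGroup (Fin 2) F :=
  ⟨!![1, x; 0, 1], by simp [Matrix.det_fin_two]⟩

/-- `(1 0; x 1)`. -/
def lM (x : F) : SpecialLinearGroup (Fin 2) F :=
  ⟨!![1, 0; x, 1], by simp [Matrix.det_fin_two]⟩

theorem coe_uM (x : F) : (uM x).1 = !![1, x; 0, 1] := rfl

theorem coe_lM (x : F) : (lM x).1 = !![1, 0; x, 1] := rfl

theorem uSL_eq_uM (x : F) : uSL (Multiplicative.ofAdd x) = uM x :=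
  Subtype.ext (by rw [coe_uSL]; rfl)

theorem mem_range_uSL_iff {A : SpecialLinearGroup (Fin 2) F} :
    A ∈ (uSL (F := F)).range ↔ ∃ x, A = uM x := by
  constructor
  · rintro ⟨t, rfl⟩
    exact ⟨t.toAdd, uSL_eq_uM t.toAdd⟩
  · rintro ⟨x, rfl⟩
    exact ⟨_, uSL_eq_uM x⟩

theorem sl2_ext {A B : SpecialLinearGroup (Fin 2) F} (h00 : A.1 0 0 = B.1 0 0)
    (h01 : A.1 0 1 = B.1 0 1) (h10 : A.1 1 0 = B.1 1 0) (h11 : A.1 1 1 = B.1 1 1) : A = B := by
  apply Subtype.ext
  ext i j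
  fin_cases i <;> fin_cases j <;> assumption

theorem eq_uM_lM_uM {A : SpecialLinearGroup (Fin 2) F} (h : A.1 1 0 ≠ 0) :
    A = uM ((A.1 0 0 - 1) / A.1 1 0) * lM (A.1 1 0) * uM ((A.1 1 1 - 1) / A.1 1 0) := by
  have hd : A.1 0 0 * A.1 1 1 - A.1 0 1 * A.1 1 0 = 1 := by
    rw [← Matrix.det_fin_two]; exact A.2
  have h' : A.1.det = 1 := A.2
  apply sl2_ext <;>
    simp only [coe_uM, coe_lM, Matrix.SpecialLinearGroup.coe_mul, Matrix.mul_apply, Fin.sum_univ_two] <;>
    (try simp) <;> (try field_simp) <;> (first | ring1 | linear_combination (-1 : F) * hd | linear_combination hd)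

/-- The unitriangular groups generate `SL₂`. -/
theorem eq_top_of_uM_lM {H : Subgroup (SpecialLinearGroup (Fin 2) F)} (hu : ∀ x, uM x ∈ H)
    (hl : ∀ x, lM x ∈ H) : H = ⊤ := by
  rw [eq_top_iff]
  rintro A -
  by_cases h : A.1 1 0 = 0
  · have h2 : (lM 1 * A).1 1 0 ≠ 0 := by
      have hd : A.1 0 0 * A.1 1 1 - A.1 0 1 * A.1 1 0 = 1 := by
        rw [← Matrix.det_fin_two]; exact A.2
      rw [h, mul_zero, sub_zero] at hd
      simp [coe_lM, Matrix.SpecialLinearGroup.coe_mul, Matrix.mul_apply, Fin.sum_univ_two, h, left_ne_zero_of_mul_eq_one hd]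
    have h3 : lM 1 * A ∈ H := by
      rw [eq_uM_lM_uM h2]
      exact mul_mem (mul_mem (hu _) (hl _)) (hu _)
    exact (Subgroup.mul_mem_cancel_left H (hl 1)).1 h3
  · rw [eq_uM_lM_uM h]
    exact mul_mem (mul_mem (hu _) (hl _)) (hu _)

/-- The upper unitriangular group and one of its conjugates other than itself generate `SL₂`. -/
theorem eq_top_of_conj_uM {H : Subgroup (SpecialLinearGroup (Fin 2) F)} (hu : ∀ x, uM x ∈ H)
    {g : SpecialLinearGroup (Fin 2) F} (hg : g.1 1 0 ≠ 0) (hc : ∀ x, g * uM x * g⁻¹ ∈ H) :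
    H = ⊤ := by
  refine eq_top_of_uM_lM hu fun y => ?_
  have h1 := eq_uM_lM_uM hg
  set a := (g.1 0 0 - 1) / g.1 1 0
  set c := g.1 1 0
  set b := (g.1 1 1 - 1) / g.1 1 0
  -- `lM y` is conjugate to an element of the upper group under `lM c * uM b`
  have h2 : ∀ x, lM c * uM x * (lM c)⁻¹ ∈ H := by
    intro x
    have h3 := hc x
    rw [h1] at h3
    have hua : ∀ z w : F, uM z * uM w = uM (z + w) := fun z w => by
      apply sl2_ext <;> simp [coe_uM, Matrix.SpecialLinearGroup.coe_mul, Matrix.mul_apply, Fin.sum_univ_two, add_comm]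
    have hb : uM b * uM x = uM x * uM b := by rw [hua, hua, add_comm]
    have h4 : uM a * lM c * uM b * uM x * (uM a * lM c * uM b)⁻¹ =
        uM a * (lM c * uM x * (lM c)⁻¹) * (uM a)⁻¹ := by
      rw [_root_.mul_inv_rev, _root_.mul_inv_rev, mul_assoc (uM a * lM c) (uM b) (uM x), hb]
      group
    rw [h4] at h3
    exact (Subgroup.mul_mem_cancel_left H (hu a)).1
      ((Subgroup.mul_mem_cancel_right H (inv_mem (hu a))).1 h3)
  by_cases hy : y = 0
  · subst hy
    have : lM (0 : F) = uM 0 := rfl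
    rw [this]; exact hu 0
  -- `uM α * (lM c * uM x * lM c⁻¹) * uM α` is `lM y` for suitable `α` and `x`
  have hx : ∀ x : F, (lM c * uM x * (lM c)⁻¹).1 = !![1 - c * x, x; -(c * c * x), 1 + c * x] := by
    intro x
    have : (lM c)⁻¹ = lM (-c) := inv_eq_of_mul_eq_one_right (by
      apply sl2_ext <;> simp [coe_lM, Matrix.SpecialLinearGroup.coe_mul, Matrix.mul_apply, Fin.sum_univ_two])
    rw [this]
    ext i j
    fin_cases i <;> fin_cases j <;>
      simp [coe_uM, coe_lM, Matrix.SpecialLinearGroup.coe_mul, Matrix.mul_apply, Fin.sum_univ_two] <;> ring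
  have hcx : (lM c * uM (-(y / (c * c))) * (lM c)⁻¹).1 1 0 = y := by
    rw [hx]; simp; field_simp
  have h5 := eq_uM_lM_uM (A := lM c * uM (-(y / (c * c))) * (lM c)⁻¹) (by rw [hcx]; exact hy)
  rw [hcx] at h5
  have h6 := h2 (-(y / (c * c)))
  rw [h5] at h6
  exact (Subgroup.mul_mem_cancel_left H (hu _)).1 ((Subgroup.mul_mem_cancel_right H (hu _)).1 h6)

theorem isNilpotent_sub_one_of_pow_eq_one {p : ℕ} [Fact p.Prime] [CharP F p]
    {A : SpecialLinearGroup (Fin 2) F} (h : ∃ k : ℕ, A ^ p ^ k = 1) : IsNilpotent (A.1 - 1) := by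
  obtain ⟨k, hk⟩ := h
  refine ⟨p ^ k, ?_⟩
  haveI : CharP (Matrix (Fin 2) (Fin 2) F) p := inferInstance
  rw [sub_pow_char_pow_of_commute (R := Matrix (Fin 2) (Fin 2) F) p k (Commute.one_right _),
    one_pow, ← Matrix.SpecialLinearGroup.coe_pow, hk, Matrix.SpecialLinearGroup.coe_one, sub_self]

theorem trace_eq_two {p : ℕ} [Fact p.Prime] [CharP F p] {A : SpecialLinearGroup (Fin 2) F}
    (h : ∃ k : ℕ, A ^ p ^ k = 1) : A.1 0 0 + A.1 1 1 = 2 := by
  have h1 := (Matrix.isNilpotent_trace_of_isNilpotent (isNilpotent_sub_one_of_pow_eq_one h)).eq_zero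
  rw [Matrix.trace_fin_two] at h1
  simp at h1
  linear_combination h1

/-- `SL₂` has no non-trivial normal `p`-subgroup in characteristic `p`. -/
theorem eq_bot_of_normal_isPGroup (p : ℕ) [Fact p.Prime] [CharP F p]
    {N : Subgroup (SpecialLinearGroup (Fin 2) F)} (hN : N.Normal) (hp : IsPGroup p ↥N) :
    N = ⊥ := by
  rw [Subgroup.eq_bot_iff_forall]
  intro A hA
  have tr : ∀ B ∈ N, B.1 0 0 + B.1 1 1 = 2 := fun B hB => by
    obtain ⟨k, hk⟩ := hp ⟨B, hB⟩
    exact trace_eq_two (p := p) ⟨k, congrArg Subtype.val hk⟩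
  -- the key identity
  have key : ∀ B ∈ N, B.1 0 1 = B.1 1 0 := by
    intro B hB
    let w : SpecialLinearGroup (Fin 2) F := ⟨!![0, 1; -1, 0], by simp [Matrix.det_fin_two]⟩
    have hwi : w⁻¹.1 = !![0, -1; 1, 0] := by
      rw [Matrix.SpecialLinearGroup.coe_inv, Matrix.adjugate_fin_two]; simp [w]
    have h1 := tr B hB
    have h2 := tr _ (mul_mem hB (hN.conj_mem B hB w))
    have hd : B.1 0 0 * B.1 1 1 - B.1 0 1 * B.1 1 0 = 1 := by
      rw [← Matrix.det_fin_two]; exact B.2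
    simp only [Matrix.SpecialLinearGroup.coe_mul, Matrix.mul_apply, Fin.sum_univ_two, hwi] at h2
    simp [w] at h2
    have h3 : (B.1 0 1 - B.1 1 0) * (B.1 0 1 - B.1 1 0) = 0 := by
      linear_combination (-1 : F) * h2 + 2 * hd
    exact sub_eq_zero.1 (mul_self_eq_zero.1 h3)
  have hd : A.1 0 0 * A.1 1 1 - A.1 0 1 * A.1 1 0 = 1 := by
    rw [← Matrix.det_fin_two]; exact A.2
  have h1 := tr A hA
  have h2 := key A hA
  have hui : ∀ x : F, (uM x)⁻¹ = uM (-x) := fun x => inv_eq_of_mul_eq_one_right (by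
    apply sl2_ext <;> simp [coe_uM, Matrix.SpecialLinearGroup.coe_mul, Matrix.mul_apply, Fin.sum_univ_two])
  have h3 := key _ (hN.conj_mem A hA (uM 1))
  have h4 := key _ (hN.conj_mem A hA (uM (-1)))
  rw [hui] at h3 h4
  simp only [Matrix.SpecialLinearGroup.coe_mul, coe_uM, Matrix.mul_apply, Fin.sum_univ_two] at h3 h4
  simp at h3 h4
  have hb : A.1 1 0 = 0 ∧ A.1 0 0 = 1 := by
    by_cases h22 : (2 : F) = 0
    · have hb : A.1 1 0 = 0 := by
        have : A.1 0 1 - A.1 1 0 - A.1 0 0 + A.1 1 1 - A.1 1 0 = 0 := by linear_combination h3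
        linear_combination (-1 : F) * this + h2 + h1 + (1 - A.1 0 0) * h22
      refine ⟨hb, ?_⟩
      have : (A.1 0 0 - 1) * (A.1 0 0 - 1) = 0 := by
        rw [h2, hb] at hd
        linear_combination (-1 : F) * hd + A.1 0 0 * h1
      exact sub_eq_zero.1 (mul_self_eq_zero.1 this)
    · have hy : (2 : F) * (A.1 1 1 - A.1 0 0) = 0 := by linear_combination h3 - h4
      have hy' := sub_eq_zero.1 ((mul_eq_zero.1 hy).resolve_left h22)
      have ha : A.1 0 0 = 1 := by
        have : (2 : F) * (A.1 0 0 - 1) = 0 := by linear_combination h1 - hy'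
        exact sub_eq_zero.1 ((mul_eq_zero.1 this).resolve_left h22)
      refine ⟨?_, ha⟩
      rw [h2, hy', ha] at hd
      exact mul_self_eq_zero.1 (by linear_combination (-1 : F) * hd)
  apply sl2_ext <;> simp [hb.1, hb.2, h2]
  linear_combination h1 - hb.2

/-- `O_p` of `qdOver F` is the translation group. -/
theorem pCore_eq (p : ℕ) [Finite F] [Fact p.Prime] [CharP F p] :
    Cfsg.pCore p ↥(Cfsg.qdOver F) = trans F := by
  refine le_antisymm ?_ (le_sSup ⟨trans_normal, isPGroup_trans p⟩)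
  refine sSup_le ?_
  rintro N ⟨hN, hp⟩
  rw [trans, ← Subgroup.map_eq_bot_iff]
  exact eq_bot_of_normal_isPGroup p (hN.map blk blk_surjective) (hp.map blk)

/-- A normal subgroup meeting the translations non-trivially contains them. -/
theorem trans_le_of_normal {N : Subgroup ↥(Cfsg.qdOver F)} (hN : N.Normal) {v : Fin 2 → F}
    (hv : mk 1 v ∈ N) (hv0 : v ≠ 0) : trans F ≤ N := by
  have hc : ∀ (A : SpecialLinearGroup (Fin 2) F) u, mk 1 u ∈ N → mk 1 (A.1 *ᵥ u - u) ∈ N := by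
    intro A u hu
    have h1 := hN.conj_mem _ hu (mk A 0)
    rw [conj_mk_one] at h1
    have h2 := mul_mem h1 (inv_mem hu)
    have h3 : (mk (1 : SpecialLinearGroup (Fin 2) F) u)⁻¹ = mk 1 (-u) :=
      inv_eq_of_mul_eq_one_right (by rw [mk_one_mul, add_neg_cancel, ← one_eq])
    rwa [h3, mk_one_mul, ← sub_eq_add_neg] at h2
  -- the first coordinate axis
  have hu : ∀ (u : Fin 2 → F) (x : F), mk 1 u ∈ N → mk 1 ![x * u 1, 0] ∈ N := by
    intro u x h
    have := hc (uM x) u h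
    have he : (uM x).1 *ᵥ u - u = ![x * u 1, 0] := by
      ext i; fin_cases i <;> simp [coe_uM, Matrix.mulVec, dotProduct, Fin.sum_univ_two]
    rwa [he] at this
  have hl : ∀ (u : Fin 2 → F) (x : F), mk 1 u ∈ N → mk 1 ![0, x * u 0] ∈ N := by
    intro u x h
    have := hc (lM x) u h
    have he : (lM x).1 *ᵥ u - u = ![0, x * u 0] := by
      ext i; fin_cases i <;> simp [coe_lM, Matrix.mulVec, dotProduct, Fin.sum_univ_two]
    rwa [he] at this
  obtain ⟨hA, hB⟩ : (∀ a : F, mk 1 ![a, 0] ∈ N) ∧ ∀ b : F, mk 1 ![0, b] ∈ N := by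
    by_cases h : v 1 = 0
    · have h0 : v 0 ≠ 0 := fun h0 => hv0 (by ext i; fin_cases i <;> simp [h0, h])
      have hB : ∀ b : F, mk 1 ![0, b] ∈ N := fun b => by
        have := hl v (b / v 0) hv; rwa [div_mul_cancel₀ _ h0] at this
      exact ⟨fun a => by simpa using hu _ a (hB 1), hB⟩
    · have hA : ∀ a : F, mk 1 ![a, 0] ∈ N := fun a => by
        have := hu v (a / v 1) hv; rwa [div_mul_cancel₀ _ h] at this
      exact ⟨hA, fun b => by simpa using hl _ b (hA 1)⟩
  intro M hM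
  obtain ⟨w, rfl⟩ := mem_trans_iff.1 hM
  have := mul_mem (hA (w 0)) (hB (w 1))
  rw [mk_one_mul] at this
  have he : ![w 0, 0] + ![0, w 1] = w := by ext i; fin_cases i <;> simp
  rwa [he] at this

/-- The upper unitriangular subgroup. -/
noncomputable def unitri (F : Type*) [Field F] : Subgroup ↥(Cfsg.qdOver F) :=
  (uSL (F := F)).range.comap blk

theorem mem_unitri_iff {M : ↥(Cfsg.qdOver F)} : M ∈ unitri F ↔ ∃ x v, M = mk (uM x) v := by
  constructor
  · intro h
    obtain ⟨A, v, rfl⟩ := exists_mk M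
    rw [unitri, Subgroup.mem_comap, blk_mk, mem_range_uSL_iff] at h
    obtain ⟨x, rfl⟩ := h
    exact ⟨x, v, rfl⟩
  · rintro ⟨x, v, rfl⟩
    rw [unitri, Subgroup.mem_comap, blk_mk, mem_range_uSL_iff]
    exact ⟨x, rfl⟩

/-- The upper unitriangular subgroup as a Sylow subgroup. -/
noncomputable def unitriSylow [Fintype F] (p : ℕ) [Fact p.Prime] [CharP F p] :
    Sylow p ↥(Cfsg.qdOver F) :=
  IsPGroup.toSylow (P := unitri F)
    ((sylowU_SL (F := F) p).isPGroup'.comap_of_ker_isPGroup blk (isPGroup_trans p))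
    (by
      rw [unitri, Subgroup.index_comap_of_surjective _ blk_surjective]
      exact (sylowU_SL (F := F) p).not_dvd_index)

theorem coe_unitriSylow [Fintype F] (p : ℕ) [Fact p.Prime] [CharP F p] :
    (unitriSylow (F := F) p : Subgroup ↥(Cfsg.qdOver F)) = unitri F := rfl

end Cfsg.Agent.Lib.LAEven54.QdOver
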