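import Mathlib.GroupTheory.Sylow
import Mathlib.GroupTheory.Commutator.Basic
import Mathlib.GroupTheory.Subgroup.Centralizer
import Mathlib.Tactic.Group
import Mathlib.RingTheory.Coprime.Lemmas
import Mathlib.GroupTheory.GroupAction.Quotient

/-!
Averaging over the cosets of `S` in `M`: a homomorphism `C_W(S) → C_W(M)` for an abelian subgroup `W`
normalized by `M`, commuting with every element normalizing `W`, `M` and `S`.
-/

set_option autoImplicit false

namespace Cfsg.Agent.Lib.LAEven54.Average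

variable {G : Type*} [Group G] {S M W : Subgroup G}

/-- The elements of a subgroup `W` centralizing `S`. -/
abbrev fixedPart (W S : Subgroup G) : Subgroup G := W ⊓ Subgroup.centralizer (S : Set G)

/-- The sum of the conjugates over the cosets of `S` in `M`. -/
theorem exists_average [Finite M] (hW : IsMulCommutative W) (hSM : S ≤ M)
    (hMW : M ≤ Subgroup.normalizer (W : Set G)) :
    ∃ e : G → G, (∀ v ∈ fixedPart W S,
        e v ∈ fixedPart W M ∧ e v * (v ^ S.relIndex M)⁻¹ ∈ ⁅W, M⁆ ∧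
        (∀ w ∈ fixedPart W S, e (v * w) = e v * e w)) ∧
      (∀ v ∈ fixedPart W M, e v = v ^ S.relIndex M) ∧
      (∀ g : G, g ∈ Subgroup.normalizer (W : Set G) → g ∈ Subgroup.normalizer (M : Set G) →
        g ∈ Subgroup.normalizer (S : Set G) → ∀ v ∈ fixedPart W S,
        g * v * g⁻¹ ∈ fixedPart W S → e (g * v * g⁻¹) = g * e v * g⁻¹) := by
  classical
  letI : CommGroup W := { (inferInstance : Group W) with mul_comm := hW.is_comm.comm }
  set S' := S.subgroupOf M with hS'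
  letI : Fintype (↥M ⧸ S') := Fintype.ofFinite _
  let act : ↥M → W → W := fun r v =>
    ⟨r * v * (r : G)⁻¹, (Subgroup.mem_normalizer_iff.1 (hMW r.2) v).1 v.2⟩
  have hact : ∀ v : W, (v : G) ∈ Subgroup.centralizer (S : Set G) → ∀ r r' : ↥M,
      (QuotientGroup.mk r : ↥M ⧸ S') = QuotientGroup.mk r' → act r v = act r' v := by
    intro v hv r r' he
    have hs : ((r⁻¹ * r' : ↥M) : G) ∈ S := (QuotientGroup.eq.1 he : r⁻¹ * r' ∈ S')
    have hfix : ((r⁻¹ * r' : ↥M) : G) * v * ((r⁻¹ * r' : ↥M) : G)⁻¹ = v := by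
      rw [Subgroup.mem_centralizer_iff.1 hv _ hs, mul_inv_cancel_right]
    apply Subtype.ext
    show (r : G) * v * (r : G)⁻¹ = r' * v * (r' : G)⁻¹
    conv_lhs => rw [← hfix]
    push_cast; group
  let av : W → W := fun v => ∏ q : ↥M ⧸ S', act q.out v
  have hout : ∀ v : W, (v : G) ∈ Subgroup.centralizer (S : Set G) → ∀ r : ↥M,
      act (QuotientGroup.mk r : ↥M ⧸ S').out v = act r v :=
    fun v hv r => hact v hv _ _ (QuotientGroup.out_eq' _)
  have hcard : Fintype.card (↥M ⧸ S') = S.relIndex M := by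
    rw [← Nat.card_eq_fintype_card]; rfl
  let e : G → G := fun v => if h : v ∈ W then (av ⟨v, h⟩ : G) else 1
  have he : ∀ v (h : v ∈ W), e v = av ⟨v, h⟩ := fun v h => dif_pos h
  refine ⟨e, fun v hv => ⟨?_, ?_, ?_⟩, ?_, ?_⟩
  · rw [he v hv.1]
    refine ⟨(av _).2, Subgroup.mem_centralizer_iff.2 fun g hg => ?_⟩
    let φ : W →* W :=
      { toFun := fun u => ⟨g * u * g⁻¹, (Subgroup.mem_normalizer_iff.1 (hMW hg) u).1 u.2⟩
        map_one' := Subtype.ext (by simp)
        map_mul' := fun a b => Subtype.ext (by simp [mul_assoc]) }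
    have h1 : φ (av ⟨v, hv.1⟩) = av ⟨v, hv.1⟩ := by
      show φ (∏ q : ↥M ⧸ S', act q.out ⟨v, hv.1⟩) = _
      rw [map_prod]
      refine Fintype.prod_equiv (MulAction.toPerm (⟨g, hg⟩ : ↥M)) _ _ fun q => ?_
      induction q using QuotientGroup.induction_on with
      | _ r =>
        rw [hout ⟨v, hv.1⟩ hv.2]
        show φ (act r ⟨v, hv.1⟩) = act (((⟨g, hg⟩ * r : ↥M)) : ↥M ⧸ S').out ⟨v, hv.1⟩
        rw [hout ⟨v, hv.1⟩ hv.2]
        exact Subtype.ext (by simp [φ, act, mul_assoc])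
    exact mul_inv_eq_iff_eq_mul.1 (congrArg Subtype.val h1)
  · rw [he v hv.1]
    set D : Subgroup W := (⁅W, M⁆).subgroupOf W with hD
    have hcong : ∀ q : ↥M ⧸ S', act q.out ⟨v, hv.1⟩ * (⟨v, hv.1⟩ : W)⁻¹ ∈ D := by
      intro q
      rw [hD, Subgroup.mem_subgroupOf, Subgroup.commutator_comm]
      simpa [act, commutatorElement_def] using
        Subgroup.commutator_mem_commutator (q.out).2 hv.1
    have := D.prod_mem (t := Finset.univ) fun q (_ : q ∈ Finset.univ) => hcong q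
    rw [Finset.prod_mul_distrib, Finset.prod_const, Finset.card_univ, inv_pow, hcard] at this
    exact this
  · intro w hw
    rw [he v hv.1, he w hw.1, he _ (mul_mem hv.1 hw.1), ← Subgroup.coe_mul]
    congr 1
    show _ = (∏ q : ↥M ⧸ S', act q.out ⟨v, hv.1⟩) * ∏ q : ↥M ⧸ S', act q.out ⟨w, hw.1⟩
    rw [← Finset.prod_mul_distrib]
    refine Finset.prod_congr rfl fun q _ => ?_
    exact Subtype.ext (by simp [act, mul_assoc])
  · intro v hv
    rw [he v hv.1]
    have : ∀ q : ↥M ⧸ S', act q.out ⟨v, hv.1⟩ = ⟨v, hv.1⟩ := fun q =>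
      Subtype.ext (by
        show (q.out : G) * v * (q.out : G)⁻¹ = v
        rw [Subgroup.mem_centralizer_iff.1 hv.2 _ q.out.2, mul_inv_cancel_right])
    show ((∏ q : ↥M ⧸ S', act q.out ⟨v, hv.1⟩ : W) : G) = _
    rw [Finset.prod_congr rfl fun q _ => this q, Finset.prod_const, Finset.card_univ, hcard]
    rfl
  · intro g hgW hgM hgS v hv hgv
    rw [he v hv.1, he _ hgv.1]
    let φ : W →* W :=
      { toFun := fun u => ⟨g * u * g⁻¹, (Subgroup.mem_normalizer_iff.1 hgW u).1 u.2⟩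
        map_one' := Subtype.ext (by simp)
        map_mul' := fun a b => Subtype.ext (by simp [mul_assoc]) }
    show _ = ((φ (av ⟨v, hv.1⟩) : W) : G)
    congr 1
    show (∏ q : ↥M ⧸ S', act q.out ⟨g * v * g⁻¹, hgv.1⟩) = φ (∏ q : ↥M ⧸ S', act q.out ⟨v, hv.1⟩)
    rw [map_prod]
    let σ : ↥M ⧸ S' → ↥M ⧸ S' := fun q =>
      QuotientGroup.mk ⟨g * q.out * g⁻¹, (Subgroup.mem_normalizer_iff.1 hgM _).1 q.out.2⟩
    have hσinj : Function.Injective σ := by
      intro q q' h
      have h' : (g * q.out * g⁻¹)⁻¹ * (g * q'.out * g⁻¹) ∈ S :=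
        (QuotientGroup.eq.1 h :
          (⟨g * q.out * g⁻¹, (Subgroup.mem_normalizer_iff.1 hgM _).1 q.out.2⟩ : ↥M)⁻¹ *
            ⟨g * q'.out * g⁻¹, (Subgroup.mem_normalizer_iff.1 hgM _).1 q'.out.2⟩ ∈ S')
      rw [show (g * (q.out : G) * g⁻¹)⁻¹ * (g * q'.out * g⁻¹) = g * ((q.out : G)⁻¹ * q'.out) * g⁻¹ by group] at h'
      have := (Subgroup.mem_normalizer_iff.1 hgS _).2 h'
      rw [← QuotientGroup.out_eq' q, ← QuotientGroup.out_eq' q', QuotientGroup.eq]
      exact this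
    refine (Fintype.prod_equiv (Equiv.ofBijective σ (Finite.injective_iff_bijective.1 hσinj)) _ _ fun q => ?_).symm
    show φ (act q.out ⟨v, hv.1⟩) = act (σ q).out ⟨g * v * g⁻¹, hgv.1⟩
    rw [hout _ hgv.2]
    exact Subtype.ext (by simp [φ, act, mul_assoc])

/-- In a subgroup of exponent `p`, recover an element from a power prime to `p`. -/
theorem mem_of_pow_mem {p n : ℕ} {K : Subgroup G} {v : G} (hp : v ^ p = 1) (hn : Nat.Coprime p n)
    (h : v ^ n ∈ K) : v ∈ K := by
  obtain ⟨a, b, hab⟩ := Nat.isCoprime_iff_coprime.2 hn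
  have hv : v = (v ^ n) ^ b := by
    conv_lhs => rw [← zpow_one v, ← hab, zpow_add, mul_comm a, zpow_mul, zpow_natCast, hp,
      one_zpow, one_mul, mul_comm b, zpow_mul, zpow_natCast]
  exact hv ▸ zpow_mem h b

end Cfsg.Agent.Lib.LAEven54.Average
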