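import Cfsg.Agent.Lib.LAEven54.QdOver

/-!
Natural `SL₂` modules in coordinates adapted to a Sylow subgroup.
-/

set_option autoImplicit false
set_option linter.unusedSectionVars false

namespace Cfsg.Agent.Lib.LAEven54.NaturalModule

open Matrix Cfsg.Agent.Lib.Linear Cfsg.Agent.Lib.LAEven54.QdOver
open scoped Pointwise

variable {G : Type*} [Group G] {F : Type*} [Field F]

/-- Coordinates for a natural module in which the `p`-subgroup `T` is upper unitriangular. -/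
structure Coord (F : Type*) [Field F] (V L T : Subgroup G) where
  ρ : ↥L →* Matrix.SpecialLinearGroup (Fin 2) F
  E : (Fin 2 → F) → G
  ρ_inj : Function.Injective ρ
  ρ_surj : Function.Surjective ρ
  E_add : ∀ u w, E (u + w) = E u * E w
  E_inj : Function.Injective E
  E_mem : ∀ w, E w ∈ V
  E_surj : ∀ v ∈ V, ∃ w, E w = v
  conj_E : ∀ (l : ↥L) w, (l : G) * E w * (l : G)⁻¹ = E ((ρ l).1 *ᵥ w)
  le : T ≤ L
  mem_T : ∀ l : ↥L, (l : G) ∈ T ↔ ∃ x, ρ l = uM x

theorem exists_coord [Finite G] {p : ℕ} [Fact p.Prime] [Fintype F] {n : ℕ}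
    (hF : Fintype.card F = p ^ n) (V L : Subgroup G) (hnat : Cfsg.IsNaturalSL2Module F V L)
    (hf : L ⊓ Subgroup.centralizer (V : Set G) = ⊥) (S : Sylow p ↥L) (T : Subgroup G)
    (hT : T = ((S : Subgroup ↥L).map L.subtype)) : Nonempty (Coord F V L T) := by
  classical
  haveI : CharP F p := by
    obtain ⟨q, hq⟩ := CharP.exists F
    haveI := hq
    obtain ⟨m, hqp, hm⟩ := FiniteField.card F q
    have : q = p := by
      refine ((Nat.prime_dvd_prime_iff_eq hqp Fact.out).1 ?_)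
      refine hqp.dvd_of_dvd_pow (n := n) ?_
      rw [← hF, hm]
      exact dvd_pow_self q m.pos.ne'
    exact this ▸ hq
  obtain ⟨-, ρ, ψ, hsurj, hker, hact⟩ := hnat
  have hinj : Function.Injective ρ := by
    rw [← MonoidHom.ker_eq_bot_iff, hker, Subgroup.subgroupOf_eq_bot, disjoint_iff, inf_comm]
    exact hf
  obtain ⟨g, hg⟩ := exists_sylow_eq_conj_SL p (S.mapSurjective hsurj)
  rw [Sylow.coe_mapSurjective] at hg
  have hEadd : ∀ u w : Fin 2 → F,
      ((Additive.toMul (ψ.symm (u + w)) : ↥V) : G) = Additive.toMul (ψ.symm u) * Additive.toMul (ψ.symm w) :=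
    fun u w => by rw [map_add]; rfl
  refine ⟨⟨(MulAut.conj g⁻¹).toMonoidHom.comp ρ,
    fun w => ((Additive.toMul (ψ.symm (g.1 *ᵥ w)) : ↥V) : G),
    (MulAut.conj g⁻¹).injective.comp hinj, (MulAut.conj g⁻¹).surjective.comp hsurj,
    fun u w => by rw [Matrix.mulVec_add, hEadd], ?_, fun w => Subtype.prop _, ?_, ?_,
    hT ▸ Subgroup.map_subtype_le _, ?_⟩⟩
  · intro u w h
    have h1 : g.1 *ᵥ u = g.1 *ᵥ w :=
      ψ.symm.injective (Additive.toMul.injective (Subtype.ext h))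
    have h2 := congrArg (fun z => (g⁻¹).1 *ᵥ z) h1
    simp only [Matrix.mulVec_mulVec, ← Matrix.SpecialLinearGroup.coe_mul, inv_mul_cancel,
      Matrix.SpecialLinearGroup.coe_one, Matrix.one_mulVec] at h2
    exact h2
  · intro v hv
    refine ⟨(g⁻¹).1 *ᵥ ψ (Additive.ofMul ⟨v, hv⟩), ?_⟩
    simp only [Matrix.mulVec_mulVec, ← Matrix.SpecialLinearGroup.coe_mul, mul_inv_cancel,
      Matrix.SpecialLinearGroup.coe_one, Matrix.one_mulVec, AddEquiv.symm_apply_apply]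
    rfl
  · intro l w
    obtain ⟨v', hv', hψ⟩ := hact l (Additive.toMul (ψ.symm (g.1 *ᵥ w)))
    show (l : G) * _ * (l : G)⁻¹ = ((Additive.toMul (ψ.symm (g.1 *ᵥ ((g⁻¹ * ρ l * g⁻¹⁻¹).1 *ᵥ w))) : ↥V) : G)
    rw [← hv', Matrix.mulVec_mulVec, ← Matrix.SpecialLinearGroup.coe_mul,
      show g * (g⁻¹ * ρ l * g⁻¹⁻¹) = ρ l * g by group, Matrix.SpecialLinearGroup.coe_mul,
      ← Matrix.mulVec_mulVec]
    have h3 : ψ (Additive.ofMul v') = (ρ l).1 *ᵥ (g.1 *ᵥ w) := by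
      rw [hψ, ofMul_toMul, AddEquiv.apply_symm_apply]
    rw [← h3, AddEquiv.symm_apply_apply]
    rfl
  · intro l
    have h1 : (l : G) ∈ T ↔ l ∈ (S : Subgroup ↥L) := by
      rw [hT]; exact Subgroup.mem_map_iff_mem L.subtype_injective
    have h2 : l ∈ (S : Subgroup ↥L) ↔ ρ l ∈ (S : Subgroup ↥L).map ρ :=
      (Subgroup.mem_map_iff_mem hinj).symm
    rw [h1, h2, hg, Subgroup.mem_pointwise_smul_iff_inv_smul_mem, ← mem_range_uSL_iff]
    rw [← map_inv]
    exact Iff.rfl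

variable {V L T : Subgroup G} (c : Coord F V L T)
include c

theorem Coord.comm {u v : G} (hu : u ∈ V) (hv : v ∈ V) : u * v = v * u := by
  obtain ⟨a, rfl⟩ := c.E_surj u hu
  obtain ⟨b, rfl⟩ := c.E_surj v hv
  rw [← c.E_add, ← c.E_add, add_comm]

theorem Coord.E_zero : c.E 0 = 1 := by
  have h := c.E_add 0 0
  rw [add_zero] at h
  exact mul_eq_right.1 h.symm

theorem Coord.E_neg (w : Fin 2 → F) : c.E (-w) = (c.E w)⁻¹ :=
  eq_inv_of_mul_eq_one_left (by rw [← c.E_add, neg_add_cancel, c.E_zero])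

theorem Coord.exists_uM (x : F) : ∃ l : ↥L, c.ρ l = uM x ∧ (l : G) ∈ T :=
  let ⟨l, hl⟩ := c.ρ_surj (uM x)
  ⟨l, hl, (c.mem_T l).2 ⟨x, hl⟩⟩

theorem Coord.commutator_E (l : ↥L) (w : Fin 2 → F) :
    c.E w * (l : G) * (c.E w)⁻¹ * (l : G)⁻¹ = c.E (w - (c.ρ l).1 *ᵥ w) := by
  rw [sub_eq_add_neg, ← Matrix.mulVec_neg, c.E_add, ← c.conj_E, c.E_neg]
  group

omit c in
theorem uM_mulVec (x : F) (w : Fin 2 → F) : (uM x).1 *ᵥ w = ![w 0 + x * w 1, w 1] := by
  ext i; fin_cases i <;> simp [coe_uM, Matrix.mulVec, dotProduct, Fin.sum_univ_two]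

theorem Coord.commutes_E_iff (l : ↥L) (w : Fin 2 → F) :
    c.E w * (l : G) = (l : G) * c.E w ↔ (c.ρ l).1 *ᵥ w = w := by
  rw [← c.E_inj.eq_iff, ← c.conj_E, mul_inv_eq_iff_eq_mul, eq_comm]

/-- `C_V(T)` is the first coordinate axis. -/
theorem Coord.mem_centralizer_iff {w : Fin 2 → F} :
    c.E w ∈ V ⊓ Subgroup.centralizer (T : Set G) ↔ w 1 = 0 := by
  constructor
  · intro h
    obtain ⟨l, hl, hlT⟩ := c.exists_uM 1
    have h1 := (c.commutes_E_iff l w).1 ((Subgroup.mem_centralizer_iff.1 h.2 _ hlT)).symm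
    rw [hl, uM_mulVec] at h1
    have h2 := congrFun h1 0
    simpa using h2
  · intro h
    refine ⟨c.E_mem w, Subgroup.mem_centralizer_iff.2 fun t ht => ?_⟩
    obtain ⟨x, hx⟩ := (c.mem_T ⟨t, c.le ht⟩).1 ht
    refine ((c.commutes_E_iff ⟨t, c.le ht⟩ w).2 ?_).symm
    rw [hx, uM_mulVec]
    ext i; fin_cases i <;> simp [h]

theorem Coord.card_V [Fintype F] : Nat.card V = Fintype.card F ^ 2 := by
  rw [← Nat.card_congr (Equiv.ofBijective (fun w => (⟨c.E w, c.E_mem w⟩ : ↥V))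
    ⟨fun u w h => c.E_inj (Subtype.ext_iff.1 h), fun v =>
      let ⟨w, hw⟩ := c.E_surj v v.2; ⟨w, Subtype.ext hw⟩⟩),
    Nat.card_eq_fintype_card, Fintype.card_fun, Fintype.card_fin]

theorem Coord.card_centralizer [Fintype F] :
    Nat.card ↥(V ⊓ Subgroup.centralizer (T : Set G)) = Fintype.card F := by
  rw [← Nat.card_congr (Equiv.ofBijective
    (fun a : F => (⟨c.E ![a, 0], c.mem_centralizer_iff.2 (by simp)⟩ :
      ↥(V ⊓ Subgroup.centralizer (T : Set G)))) ⟨fun a b h => by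
      have h2 := congrFun (c.E_inj (Subtype.ext_iff.1 h)) 0
      simpa using h2, fun v => by
      obtain ⟨w, hw⟩ := c.E_surj v v.2.1
      refine ⟨w 0, Subtype.ext ?_⟩
      have h1 : w 1 = 0 := c.mem_centralizer_iff.1 (hw ▸ v.2)
      show c.E ![w 0, 0] = _
      rw [← hw]; congr 1
      ext i; fin_cases i <;> simp [h1]⟩), Nat.card_eq_fintype_card]

end Cfsg.Agent.Lib.LAEven54.NaturalModule
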