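import Cfsg.Prelude.Def_LocalEven
import Cfsg.Agent.Lib.Cores.Basic
import Cfsg.Agent.Lib.PGroups.ElemAb

/-!
p-reduced normal subgroups: the trivial subgroup, joins, the largest one.
-/

set_option autoImplicit false

namespace Cfsg.Agent.Lib.LAEven54.Reduced

open Cfsg

variable {L : Type*} [Group L] {p : ℕ}

theorem isPGroup_of_normal_of_map {C D : Subgroup L} [C.Normal]
    (hD : IsPGroup p (D.map (QuotientGroup.mk' C))) (hn : D.Normal)
    (h : pCore p (L ⧸ C) = ⊥) : D ≤ C := by
  haveI := hn
  haveI : (D.map (QuotientGroup.mk' C)).Normal := hn.map _ (QuotientGroup.mk'_surjective C)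
  have := Cfsg.Agent.Lib.Cores.le_pCore hD
  rw [h, le_bot_iff, Subgroup.map_eq_bot_iff, QuotientGroup.ker_mk'] at this
  exact this

theorem normal_centralizer_of_normal (V : Subgroup L) [V.Normal] :
    (Subgroup.centralizer (V : Set L)).Normal :=
  inferInstance

/-- A normal `p`-subgroup centralizes every `p`-reduced normal subgroup. -/
theorem le_centralizer_of_isPGroup {V N : Subgroup L} (hV : IsPReducedNormal p V) (hn : N.Normal)
    (hN : IsPGroup p N) : N ≤ Subgroup.centralizer (V : Set L) := by
  obtain ⟨-, -, hC, h⟩ := hV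
  exact isPGroup_of_normal_of_map (hN.map _) hn h

theorem isPReducedNormal_bot : IsPReducedNormal p (⊥ : Subgroup L) := by
  refine ⟨inferInstance, Cfsg.Agent.Lib.PGroups.elemAb_bot, inferInstance, ?_⟩
  have : Subgroup.centralizer ((⊥ : Subgroup L) : Set L) = ⊤ := by
    ext x; simp [Subgroup.mem_centralizer_iff]
  rw [eq_bot_iff]
  intro q _
  obtain ⟨x, rfl⟩ := QuotientGroup.mk_surjective q
  exact (QuotientGroup.eq_one_iff x).2 (this ▸ Subgroup.mem_top x)

theorem isPReducedNormal_sup [Finite L] [Fact p.Prime] {V W : Subgroup L}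
    (hV : IsPReducedNormal p V) (hW : IsPReducedNormal p W) : IsPReducedNormal p (V ⊔ W) := by
  haveI := hV.1; haveI := hW.1
  have hcomm : W ≤ Subgroup.centralizer (V : Set L) :=
    le_centralizer_of_isPGroup hV hW.1 (Cfsg.Agent.Lib.PGroups.elemAb_isPGroup hW.2.1)
  refine ⟨inferInstance, ?_, inferInstance, ?_⟩
  · exact Cfsg.Agent.Lib.PGroups.elemAb_sup hV.2.1 hW.2.1
      (fun a ha b hb => Subgroup.mem_centralizer_iff.1 (hcomm hb) a ha)
  · set C := Subgroup.centralizer ((V ⊔ W : Subgroup L) : Set L) with hC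
    set D := (pCore p (L ⧸ C)).comap (QuotientGroup.mk' C) with hDdef
    have key : ∀ U : Subgroup L, IsPReducedNormal p U → U ≤ V ⊔ W →
        D ≤ Subgroup.centralizer (U : Set L) := by
      intro U hU hle
      haveI := hU.1
      obtain ⟨-, -, hn, hbot⟩ := hU
      refine isPGroup_of_normal_of_map ?_ inferInstance hbot
      have hCU : C ≤ Subgroup.centralizer (U : Set L) := Subgroup.centralizer_le hle
      have : D.map (QuotientGroup.mk' (Subgroup.centralizer (U : Set L)))
          = (pCore p (L ⧸ C)).map (QuotientGroup.map C (Subgroup.centralizer (U : Set L)) (MonoidHom.id L) (by rwa [Subgroup.comap_id])) := by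
        rw [← Subgroup.map_comap_eq_self_of_surjective (QuotientGroup.mk'_surjective C)
          (pCore p (L ⧸ C)), Subgroup.map_map]
        congr 1
      rw [this]
      exact (Cfsg.Agent.Lib.Cores.pCore_isPGroup p).map _
    have hDC : D ≤ C := by
      intro x hx
      rw [hC, Subgroup.mem_centralizer_iff]
      intro y hy
      have h1 : V ⊔ W ≤ Subgroup.centralizer ({x} : Set L) := by
        refine sup_le ?_ ?_ <;> intro z hz <;> rw [Subgroup.mem_centralizer_singleton_iff]
        · exact Subgroup.mem_centralizer_iff.1 (key V hV le_sup_left hx) z hz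
        · exact Subgroup.mem_centralizer_iff.1 (key W hW le_sup_right hx) z hz
      exact Subgroup.mem_centralizer_singleton_iff.1 (h1 hy)
    rw [eq_bot_iff]
    intro q hq
    obtain ⟨x, rfl⟩ := QuotientGroup.mk_surjective q
    exact (QuotientGroup.eq_one_iff x).2 (hDC hq)

theorem exists_largest [Finite L] [Fact p.Prime] :
    ∃ Y : Subgroup L, IsPReducedNormal p Y ∧ ∀ V : Subgroup L, IsPReducedNormal p V → V ≤ Y := by
  obtain ⟨Y, hY, hmax⟩ := (Set.toFinite {V : Subgroup L | IsPReducedNormal p V}).exists_maximalFor id _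
    ⟨⊥, isPReducedNormal_bot⟩
  refine ⟨Y, hY, fun V hV => ?_⟩
  exact le_sup_right.trans (hmax (isPReducedNormal_sup hY hV) le_sup_left)

end Cfsg.Agent.Lib.LAEven54.Reduced
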