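import Cfsg.Agent.Lib.LAEven54.Reduced
import Cfsg.Agent.Lib.CharP.Basic
import Cfsg.Agent.Lib.CosetGraph.SylowIn

/-!
p-reduced normal subgroups from subgroups containing a Sylow subgroup.
-/

set_option autoImplicit false

namespace Cfsg.Agent.Lib.LAEven54.ReducedSylow

open Cfsg

variable {L : Type*} [Group L] [Finite L] {p : ℕ} [Fact p.Prime]

/-- The preimage of `O_p(L / C)` is `C` times a part of any Sylow subgroup. -/
theorem exists_sylow_part (T : Sylow p L) (C : Subgroup L) [C.Normal] {x : L}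
    (hx : QuotientGroup.mk' C x ∈ pCore p (L ⧸ C)) :
    ∃ t ∈ (T : Subgroup L), QuotientGroup.mk' C t = QuotientGroup.mk' C x := by
  have := Cfsg.Agent.Lib.Cores.pCore_le_sylow (T.mapSurjective (QuotientGroup.mk'_surjective C)) hx
  rw [Sylow.coe_mapSurjective] at this
  exact this

/-- To check that a normal elementary abelian subgroup is `p`-reduced it suffices to look at normal
subgroups with `p`-group image. -/
theorem isPReducedNormal_of {V : Subgroup L} [V.Normal] (hV : IsElementaryAbelian p V)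
    (h : ∀ D : Subgroup L, D.Normal → Subgroup.centralizer (V : Set L) ≤ D →
      IsPGroup p (D.map (QuotientGroup.mk' (Subgroup.centralizer (V : Set L)))) →
      D ≤ Subgroup.centralizer (V : Set L)) :
    IsPReducedNormal p V := by
  refine ⟨inferInstance, hV, inferInstance, ?_⟩
  set C := Subgroup.centralizer (V : Set L)
  have hle : (pCore p (L ⧸ C)).comap (QuotientGroup.mk' C) ≤ C := by
    refine h _ inferInstance ?_ ?_
    · intro x hx
      show QuotientGroup.mk' C x ∈ pCore p (L ⧸ C)
      rw [show QuotientGroup.mk' C x = 1 from (QuotientGroup.eq_one_iff x).2 hx]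
      exact one_mem _
    · rw [Subgroup.map_comap_eq_self_of_surjective (QuotientGroup.mk'_surjective C)]
      exact Cfsg.Agent.Lib.Cores.pCore_isPGroup p
  rw [eq_bot_iff]
  intro q hq
  obtain ⟨x, rfl⟩ := QuotientGroup.mk_surjective q
  exact (QuotientGroup.eq_one_iff x).2 (hle hq)

/-- In characteristic `p`, the normal closure of a `p`-reduced normal subgroup of a subgroup containing a
Sylow subgroup is `p`-reduced. -/
theorem isPReducedNormal_normalClosure
    (hchar : Subgroup.centralizer (pCore p L : Set L) ≤ pCore p L)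
    (T : Sylow p L) (R : Subgroup L) (hTR : (T : Subgroup L) ≤ R) (X : Subgroup ↥R)
    (hX : IsPReducedNormal p X) :
    IsPReducedNormal p (Subgroup.normalClosure ((X.map R.subtype : Subgroup L) : Set L)) := by
  set X' := X.map R.subtype with hX'
  set W := Subgroup.normalClosure (X' : Set L) with hWdef
  have hQR : pCore p L ≤ R := (Cfsg.Agent.Lib.Cores.pCore_le_sylow T).trans hTR
  have hQX : (pCore p L).subgroupOf R ≤ Subgroup.centralizer (X : Set R) :=
    Reduced.le_centralizer_of_isPGroup hX inferInstance (Cfsg.Agent.Lib.Cores.pCore_isPGroup p).comap_subtype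
  have hXZ : X' ≤ pCore p L ⊓ Subgroup.centralizer (pCore p L : Set L) := by
    have hc : X' ≤ Subgroup.centralizer (pCore p L : Set L) := by
      rintro _ ⟨x, hx, rfl⟩
      exact Subgroup.mem_centralizer_iff.2 fun q hq => (congrArg R.subtype
        (Subgroup.mem_centralizer_iff.1 (hQX (show (⟨q, hQR hq⟩ : R) ∈ _ from hq)) x hx)).symm
    exact le_inf (hc.trans hchar) hc
  have hWZ : W ≤ pCore p L ⊓ Subgroup.centralizer (pCore p L : Set L) :=
    Subgroup.normalClosure_le_normal hXZ
  have hWab : ∀ a ∈ W, ∀ b ∈ W, a * b = b * a := fun a ha b hb =>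
    Subgroup.mem_centralizer_iff.1 (hWZ hb).2 a (hWZ ha).1
  have hWexp : ∀ a ∈ W, a ^ p = 1 := by
    let P : Subgroup L :=
      { carrier := {a | a ∈ W ∧ a ^ p = 1}
        one_mem' := ⟨one_mem _, one_pow _⟩
        mul_mem' := fun {a b} ha hb => ⟨mul_mem ha.1 hb.1, by
          rw [(show Commute a b from hWab a ha.1 b hb.1).mul_pow, ha.2, hb.2, one_mul]⟩
        inv_mem' := fun {a} ha => ⟨inv_mem ha.1, by rw [inv_pow, ha.2, inv_one]⟩ }
    have hP : W ≤ P := by
      rw [hWdef, Subgroup.normalClosure, Subgroup.closure_le]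
      intro a ha
      refine ⟨Subgroup.subset_closure ha, ?_⟩
      obtain ⟨x, hx, hxc⟩ := Group.mem_conjugatesOfSet_iff.1 ha
      obtain ⟨c, rfl⟩ := isConj_iff.1 hxc
      obtain ⟨y, hy, rfl⟩ := hx
      have : (y : L) ^ p = 1 := congrArg R.subtype (hX.2.1.2 y hy)
      rw [conj_pow, show (R.subtype y : L) = (y : L) from rfl, this, mul_one, mul_inv_cancel]
    exact fun a ha => (hP ha).2
  refine isPReducedNormal_of ⟨⟨⟨fun a b => Subtype.ext (hWab a a.2 b b.2)⟩⟩, hWexp⟩ ?_
  intro D hD hCD hDp
  set C := Subgroup.centralizer (W : Set L) with hC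
  have hXW : X' ≤ W := Subgroup.subset_normalClosure
  -- `D ∩ R` centralizes `X`
  have hDR : D.subgroupOf R ≤ Subgroup.centralizer (X : Set R) := by
    haveI := hD
    haveI := hX.1
    obtain ⟨-, -, hn, hbot⟩ := hX
    refine Reduced.isPGroup_of_normal_of_map ?_ inferInstance hbot
    rintro ⟨_, ⟨d, hd, rfl⟩⟩
    obtain ⟨k, hk⟩ := hDp ⟨_, ⟨(d : L), hd, rfl⟩⟩
    have hk' : ((d : L) ^ p ^ k) ∈ C := (QuotientGroup.eq_one_iff _).1 (congrArg Subtype.val hk)
    refine ⟨k, Subtype.ext ?_⟩
    show (QuotientGroup.mk' _ d) ^ p ^ k = 1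
    rw [← map_pow]
    refine (QuotientGroup.eq_one_iff _).2 (Subgroup.mem_centralizer_iff.2 fun x hx => Subtype.ext ?_)
    exact Subgroup.mem_centralizer_iff.1 hk' (x : L) (hXW ⟨x, hx, rfl⟩)
  have hDX : D ≤ Subgroup.centralizer (X' : Set L) := by
    intro d hd
    obtain ⟨t, ht, htd⟩ := exists_sylow_part T C (x := d) (by
      haveI : (D.map (QuotientGroup.mk' C)).Normal := hD.map _ (QuotientGroup.mk'_surjective C)
      exact Cfsg.Agent.Lib.Cores.le_pCore hDp ⟨d, hd, rfl⟩)
    have hc : t⁻¹ * d ∈ C := QuotientGroup.eq.1 htd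
    have htD : t ∈ D := by
      have := mul_mem hd (inv_mem (hCD hc))
      rwa [show d * (t⁻¹ * d)⁻¹ = t by group] at this
    have h1 : t ∈ Subgroup.centralizer (X' : Set L) := Subgroup.mem_centralizer_iff.2 (by
      rintro _ ⟨x, hx, rfl⟩
      exact congrArg R.subtype
        (Subgroup.mem_centralizer_iff.1 (hDR (show (⟨t, hTR ht⟩ : R) ∈ _ from htD)) x hx))
    rw [show d = t * (t⁻¹ * d) by group]
    exact mul_mem h1 (Subgroup.centralizer_le hXW hc)
  -- hence `D` centralizes the normal closure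
  have hW' : W ≤ Subgroup.centralizer (D : Set L) := by
    haveI := hD
    refine Subgroup.normalClosure_le_normal fun x hx => Subgroup.mem_centralizer_iff.2 fun d hd => ?_
    exact (Subgroup.mem_centralizer_iff.1 (hDX hd) x hx).symm
  exact fun d hd => Subgroup.mem_centralizer_iff.2 fun w hw =>
    (Subgroup.mem_centralizer_iff.1 (hW' hw) d hd).symm

end Cfsg.Agent.Lib.LAEven54.ReducedSylow
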